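import Cfsg.Agent.Lib.RankTwoInvol.Nonabelian
import Cfsg.Agent.Lib.Involutions.SylowPSUThree

/-!
The classification of 2-groups of rank two with involutions permuted transitively.
-/

set_option autoImplicit false
set_option linter.all false

namespace Cfsg.Agent.RankTwoInvol

open Cfsg

variable {T : Type*} [Group T] [Finite T]

/-- The involutions of a rank two group with transitive automorphism. -/
theorem exists_data (hT : IsPGroup 2 T) (h2 : PRankLE 2 2 T) (h1 : ¬ PRankLE 2 1 T) (φ : MulAut T)
    (htrans : ∀ s t : T, orderOf s = 2 → orderOf t = 2 → ∃ k : ℕ, (φ ^ k) s = t) : Nonempty (Data T) := by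
  classical
  haveI : Fact (Nat.Prime 2) := ⟨Nat.prime_two⟩
  unfold PRankLE at h1 h2
  push Not at h1
  obtain ⟨E, hEc, hE2, hEcard⟩ := h1
  have hord : ∀ {t : T}, t * t = 1 → t ≠ 1 → orderOf t = 2 := fun h hne => orderOf_eq_prime (by rw [pow_two, h]) hne
  have hsq : ∀ {t : T}, orderOf t = 2 → t * t = 1 := fun {t} h => by
    rw [← pow_two, ← h, pow_orderOf_eq_one]
  -- a central involution
  haveI : Nontrivial T := by
    by_contra h
    rw [not_nontrivial_iff_subsingleton] at h
    haveI := h
    have : Nat.card E ≤ 1 := Finite.card_le_one_iff_subsingleton.2 inferInstance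
    omega
  have hZn : Nontrivial (Subgroup.center T) := hT.center_nontrivial
  obtain ⟨m, hm, hmc⟩ := (hT.to_subgroup (Subgroup.center T)).nontrivial_iff_card.1 hZn
  obtain ⟨z, hz⟩ := exists_prime_orderOf_dvd_card' (G := Subgroup.center T) 2 (hmc ▸ dvd_pow_self 2 (by omega))
  have hzo : orderOf (z : T) = 2 := by rw [Subgroup.orderOf_coe, hz]
  have hcentral : ∀ t : T, t * t = 1 → ∀ s : T, s * t = t * s := by
    intro t ht s
    by_cases h : t = 1
    · simp [h]
    obtain ⟨k, hk⟩ := htrans (z : T) t hzo (hord ht h)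
    obtain ⟨s', rfl⟩ := (φ ^ k).surjective s
    rw [← hk, ← map_mul, ← map_mul, Subgroup.mem_center_iff.1 z.2 s']
  -- the group of all involutions
  let Ω : Subgroup T :=
    { carrier := {t | t * t = 1}
      one_mem' := mul_one 1
      mul_mem' := by
        intro a b ha hb
        show a * b * (a * b) = 1
        rw [mul_assoc, ← mul_assoc b, hcentral a ha b, mul_assoc a, hb, mul_one, ha]
      inv_mem' := by
        intro a ha
        show a⁻¹ * a⁻¹ = 1
        rw [← mul_inv_rev, ha, inv_one] }
  haveI hΩc : IsMulCommutative Ω := ⟨⟨fun a b => Subtype.ext (hcentral b b.2 a)⟩⟩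
  have hle : Nat.card Ω ≤ 2 ^ 2 := h2 Ω hΩc fun a ha => by rw [pow_two]; exact ha
  have hge : Nat.card E ≤ Nat.card Ω := Subgroup.card_le_of_le (fun a ha => by
    show a * a = 1
    rw [← pow_two]; exact hE2 a ha)
  have hcard : Nat.card Ω = 4 := by
    obtain ⟨j, hj⟩ := (hT.to_subgroup Ω).exists_card_eq
    have hj2 : j = 2 := by
      rcases j with _ | _ | _ | j
      · rw [hj] at hge; norm_num at hge hEcard; omega
      · rw [hj] at hge; norm_num at hge hEcard; omega
      · rfl
      · rw [hj] at hle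
        have := (Nat.pow_le_pow_iff_right (by norm_num : 1 < 2)).1 hle
        omega
    rw [hj, hj2]; rfl
  -- the three involutions
  set v : T := (z : T) with hv
  have hv2 : v * v = 1 := hsq hzo
  have hv1 : v ≠ 1 := fun h => by rw [h, orderOf_one] at hzo; omega
  obtain ⟨w, hw2, hw1, hwv⟩ : ∃ w : T, w * w = 1 ∧ w ≠ 1 ∧ w ≠ v := by
    by_contra hcon
    push Not at hcon
    have hsub : (Ω : Set T) ⊆ {1, v} := fun t ht => by
      by_cases h : t = 1
      · exact Or.inl h
      · exact Or.inr (hcon t ht h)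
    have := (Set.ncard_le_ncard hsub (Set.toFinite _)).trans (Set.ncard_insert_le _ _)
    rw [← Nat.card_coe_set_eq, Set.ncard_singleton] at this
    change Nat.card Ω ≤ 1 + 1 at this
    omega
  have hwo := hord hw2 hw1
  have hinv : ∀ {t : T}, t * t = 1 → φ t * φ t = 1 := fun h => by rw [← map_mul, h, map_one]
  have hφ1 : φ v ≠ v := by
    intro h
    obtain ⟨k, hk⟩ := htrans v w hzo hwo
    refine hwv ?_
    have hk' : ∀ j : ℕ, (φ ^ j) v = v := fun j => by
      induction j with
      | zero => rfl
      | succ j ih => rw [pow_succ, MulAut.mul_apply, h, ih]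
    rw [← hk, hk' k]
  set a := φ v with ha
  have ha2 : a * a = 1 := hinv hv2
  have ha1 : a ≠ 1 := fun h => hv1 (φ.injective (by rw [← ha, h, map_one]))
  have hfour : ∀ t : T, t * t = 1 → t = 1 ∨ t = v ∨ t = a ∨ t = v * a := by
    intro t ht
    by_contra hcon
    push Not at hcon
    obtain ⟨c1, c2, c3, c4⟩ := hcon
    have hva : v * a ≠ 1 := fun h => hφ1 (mul_left_cancel (h.trans hv2.symm))
    have hvav : v * a ≠ v := fun h => ha1 (mul_left_cancel (h.trans (mul_one v).symm))
    have hvaa : v * a ≠ a := fun h => hv1 (mul_right_cancel (h.trans (one_mul a).symm))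
    have hsub : ({1, v, a, v * a, t} : Set T) ⊆ Ω := by
      rintro x (rfl | rfl | rfl | rfl | rfl)
      exacts [mul_one 1, hv2, ha2, Ω.mul_mem hv2 ha2, ht]
    have h := Set.ncard_le_ncard hsub (Set.toFinite _)
    rw [Set.ncard_insert_of_notMem (by simp [Ne.symm hv1, Ne.symm ha1, Ne.symm hva, Ne.symm c1]),
      Set.ncard_insert_of_notMem (by simp [Ne.symm hφ1, Ne.symm hvav, Ne.symm c2]),
      Set.ncard_insert_of_notMem (by simp [Ne.symm hvaa, Ne.symm c3]),
      Set.ncard_pair (Ne.symm c4), ← Nat.card_coe_set_eq] at h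
    change 2 + 1 + 1 + 1 ≤ Nat.card Ω at h
    omega
  have hb : φ a = v * a := by
    rcases hfour _ (hinv ha2) with h | h | h | h
    · exact absurd (φ.injective (h.trans (map_one φ).symm)) ha1
    · exfalso
      have hall : ∀ k, (φ ^ k) v = v ∨ (φ ^ k) v = a := by
        intro k
        induction k with
        | zero => exact Or.inl rfl
        | succ k ih =>
          rw [pow_succ', MulAut.mul_apply]
          rcases ih with e | e <;> rw [e]
          · exact Or.inr rfl
          · exact Or.inl h
      have hva : orderOf (v * a) = 2 := by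
        refine hord (Ω.mul_mem hv2 ha2) ?_
        exact fun h' => hφ1 (mul_left_cancel (h'.trans hv2.symm))
      obtain ⟨k, hk⟩ := htrans v (v * a) hzo hva
      rcases hall k with e | e <;> rw [hk] at e
      · exact ha1 (mul_left_cancel (e.trans (mul_one v).symm))
      · exact hv1 (mul_right_cancel (e.trans (one_mul a).symm))
    · exact absurd (φ.injective h) hφ1
    · exact h
  have hc : φ (v * a) = v := by
    rw [map_mul, hb, ← ha, ← mul_assoc, hcentral v hv2 a, mul_assoc, ha2, mul_one]
  have h3 : (φ ^ 3) v = v := by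
    show φ (φ (φ v)) = v
    rw [← ha, hb, hc]
  have hmod : ∀ k : ℕ, (φ ^ k) v = (φ ^ (k % 3)) v := by
    intro k
    conv_lhs => rw [← Nat.mod_add_div k 3, pow_add, MulAut.mul_apply]
    congr 1
    induction k / 3 with
    | zero => rfl
    | succ j ih => rw [Nat.mul_succ, pow_add, MulAut.mul_apply, h3, ih]
  obtain ⟨k, r, hr, hord3⟩ : ∃ k r : ℕ, ¬ 3 ∣ r ∧ orderOf φ = 3 ^ k * r := by
    obtain ⟨k, r, hr, h⟩ := Nat.exists_eq_pow_mul_and_not_dvd (n := orderOf φ)
      (by have : IsOfFinOrder φ := isOfFinOrder_of_finite φ; exact this.orderOf_pos.ne') 3 (by norm_num)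
    exact ⟨k, r, hr, h⟩
  set ρ := φ ^ r with hρ
  have hiter : ∀ j : ℕ, (ρ ^ j) v = (φ ^ ((r * j) % 3)) v := fun j => by rw [hρ, ← pow_mul, hmod]
  have e1 : (φ ^ 1) v = a := by rw [pow_one]
  have e2 : (φ ^ 2) v = v * a := by show φ (φ v) = _; rw [← ha, hb]
  have hr12 : r % 3 = 1 ∨ r % 3 = 2 := by omega
  have hρ1 : ρ v = (φ ^ (r % 3)) v := by rw [hρ, hmod]
  have hρ2 : ρ (ρ v) = (φ ^ (r * 2 % 3)) v := by rw [← hiter 2]; rfl
  have hne1 : v * a ≠ v := fun h => ha1 (mul_left_cancel (h.trans (mul_one v).symm))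
  refine ⟨{ r := ρ, v := v, isP := hT, finite_order := ⟨k, by rw [hρ, ← pow_mul, mul_comm, ← hord3, pow_orderOf_eq_one]⟩,
            v_sq := hv2, v_ne := hv1, moved := ?_, cycle := ?_, only := ?_, central := hcentral }⟩
  · rw [hρ1]
    rcases hr12 with h | h <;> rw [h]
    · rw [e1]; exact hφ1
    · rw [e2]; exact hne1
  · show (ρ ^ 3) v = v
    rw [hiter 3, show r * 3 % 3 = 0 by omega]; rfl
  · intro t ht
    rw [hρ2, hρ1]
    have hr2 : r * 2 % 3 = 2 ∧ r % 3 = 1 ∨ r * 2 % 3 = 1 ∧ r % 3 = 2 := by omega
    rcases hr2 with ⟨p, q⟩ | ⟨p, q⟩ <;> rw [p, q, e1, e2] <;>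
      rcases hfour t ht with h | h | h | h <;> simp [h]

/-- Sylow 2-subgroups of `PSU₃(4)` have the normal form. -/
theorem gens_heis {F : Type*} [Field F] [Fintype F] [CharP F 2] {n : ℕ} (hn : n = 2)
    (hF : Fintype.card F = (2 ^ n) ^ 2) (B : Involutions.SylowPSUThree.Base F n) :
    Nonempty (Gens ↥(Involutions.SylowPSUThree.heis hF B)) := by
  open Involutions.SylowPSUThree in
  classical
  subst hn
  set P := ↥(heis hF B)
  haveI : Finite P := inferInstance
  have hP : IsPGroup 2 P := isPGroup_heis hF B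
  have hinv : ∀ t : P, t * t = 1 → ∀ s : P, s * t = t * s := fun t ht s =>
    Subgroup.mem_center_iff.1 (involution_central hF B ht) s
  obtain ⟨l, hlq, hl1⟩ : ∃ l : Fˣ, (l : F) ^ (2 ^ 2) = l ∧ l ≠ 1 := by
    by_contra hcon
    push Not at hcon
    have hsub : {x : F | x ^ (2 ^ 2) = x} ⊆ {0, 1} := fun x hx => by
      by_cases h0 : x = 0
      · exact Or.inl h0
      · exact Or.inr (by simpa using congrArg Units.val (hcon (Units.mk0 x h0) hx))
    have h := (Set.ncard_le_ncard hsub (Set.toFinite _)).trans (Set.ncard_insert_le _ _)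
    rw [← Nat.card_coe_set_eq, Set.ncard_singleton] at h
    have h4 : Nat.card {x : F // x ^ (2 ^ 2) = x} = 2 ^ 2 := card_fixed hF
    change Nat.card {x : F // x ^ (2 ^ 2) = x} ≤ 1 + 1 at h
    omega
  obtain ⟨κ, hκ⟩ := exists_scale_aut hF B l hlq
  have hl3 : (l : F) ^ 3 = 1 := by
    have h : (l : F) * (l : F) ^ 3 = (l : F) * 1 := by rw [mul_one]; linear_combination hlq
    exact mul_left_cancel₀ l.ne_zero h
  obtain ⟨m, hm, hmc⟩ : ∃ a : F, a ≠ 0 ∧ a + a ^ (2 ^ 2) = (0 : F) * 0 ^ (2 ^ 2) :=
    ⟨1, one_ne_zero, by rw [one_pow, CharTwo.add_self_eq_zero, zero_mul]⟩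
  obtain ⟨v, hv⟩ := exists_el hF B hmc
  have hll : (l : F) * l ≠ 1 := fun h => hl1 (Units.ext (by
    have : (l : F) = 1 := by linear_combination hl3 - (l : F) * h
    simpa using this))
  have hl1' : (l : F) ≠ 1 := fun h => hl1 (Units.ext (by simpa using h))
  have hc1 := hκ _ _ _ hv
  have hc2 := hκ _ _ _ hc1
  have hc3 := hκ _ _ _ hc2
  have hvne : v ≠ 1 := fun h => by
    subst h
    exact hm (IsCoord.unique hF B hv (isCoord_one hF B)).2
  have hall : ∀ (t : P) (b a : F), IsCoord B (t : Cfsg.SU 3 F (2 ^ 2)) b a → ((κ ^ 3) t = t) := by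
    intro t b a ht
    refine Subtype.ext (IsCoord.ext hF B (hκ _ _ _ (hκ _ _ _ (hκ _ _ _ ht))) ?_)
    convert ht using 1
    · linear_combination b * hl3
    · linear_combination a * (((l : F) ^ 3 + 1)) * hl3
  let D : Data P :=
    { r := κ
      v := v
      isP := hP
      finite_order := ⟨1, MulEquiv.ext fun t => by
        obtain ⟨b, a, ht⟩ := exists_coord hF B t.2
        exact hall t b a ht⟩
      v_sq := (mul_self_eq_one hF B hv).2 rfl
      v_ne := hvne
      moved := fun h => by
        rw [h] at hc1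
        have e := (IsCoord.unique hF B hv hc1).2
        exact hll (mul_right_cancel₀ hm (by rw [one_mul]; exact e.symm))
      cycle := hall v _ _ hv
      only := by
        intro t ht
        obtain ⟨b, a, hc⟩ := exists_coord hF B t.2
        obtain rfl := (mul_self_eq_one hF B hc).1 ht
        have ha : a ^ (2 ^ 2) = a := by
          have := hc.2
          rw [zero_mul, add_eq_zero_iff_eq_neg, CharTwo.neg_eq] at this
          exact this.symm
        have hm4 : m ^ (2 ^ 2) = m := by
          have := hmc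
          rw [zero_mul, add_eq_zero_iff_eq_neg, CharTwo.neg_eq] at this
          exact this.symm
        -- the fixed field consists of `0` and three multiples of `m`
        have hfix : a = 0 ∨ a = m ∨ a = (l : F) * l * m ∨ a = (l : F) * l * ((l : F) * l * m) := by
          by_contra hcon
          push Not at hcon
          obtain ⟨c0, c1, c2, c3⟩ := hcon
          have hlm : (l : F) * l * m ≠ 0 := mul_ne_zero (mul_ne_zero l.ne_zero l.ne_zero) hm
          have hlm' : (l : F) * l * ((l : F) * l * m) ≠ 0 := mul_ne_zero (mul_ne_zero l.ne_zero l.ne_zero) hlm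
          have hsub : ({0, m, (l : F) * l * m, (l : F) * l * ((l : F) * l * m), a} : Set F) ⊆
              {x : F | x ^ (2 ^ 2) = x} := by
            rintro x (rfl | rfl | rfl | rfl | rfl)
            · simp
            · exact hm4
            · show ((l : F) * l * m) ^ (2 ^ 2) = _; rw [mul_pow, mul_pow, hlq, hm4]
            · show ((l : F) * l * ((l : F) * l * m)) ^ (2 ^ 2) = _
              rw [mul_pow, mul_pow, mul_pow, mul_pow, hlq, hm4]
            · exact ha
          have d1 : m ≠ (l : F) * l * m := fun h => hll (mul_right_cancel₀ hm (by rw [one_mul, ← h]))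
          have d2 : m ≠ (l : F) * l * ((l : F) * l * m) := fun h => hl1' (by
            refine mul_right_cancel₀ hm ?_
            linear_combination -h - (l : F) * m * hl3)
          have d3 : (l : F) * l * m ≠ (l : F) * l * ((l : F) * l * m) := fun h =>
            d1 (mul_left_cancel₀ (mul_ne_zero l.ne_zero l.ne_zero) h)
          have h := Set.ncard_le_ncard hsub (Set.toFinite _)
          rw [Set.ncard_insert_of_notMem (by simp [Ne.symm hm, Ne.symm hlm, Ne.symm hlm', Ne.symm c0]),
            Set.ncard_insert_of_notMem (by simp [d1, d2, Ne.symm c1]),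
            Set.ncard_insert_of_notMem (by simp [d3, Ne.symm c2]),
            Set.ncard_pair (Ne.symm c3), ← Nat.card_coe_set_eq] at h
          have h4 : Nat.card {x : F // x ^ (2 ^ 2) = x} = 2 ^ 2 := card_fixed hF
          change 2 + 1 + 1 + 1 ≤ Nat.card {x : F // x ^ (2 ^ 2) = x} at h
          omega
        rcases hfix with rfl | rfl | rfl | rfl
        · exact Or.inl (Subtype.ext (IsCoord.ext hF B hc (isCoord_one hF B)))
        · exact Or.inr (Or.inl (Subtype.ext (IsCoord.ext hF B hc hv)))
        · refine Or.inr (Or.inr (Or.inl (Subtype.ext (IsCoord.ext hF B hc ?_))))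
          simpa using hc1
        · refine Or.inr (Or.inr (Or.inr (Subtype.ext (IsCoord.ext hF B hc ?_))))
          simpa using hc2
      central := hinv }
  refine D.nonabelian fun hab => ?_
  have h1 : Nat.card (Subgroup.center P) = Nat.card P := by
    rw [show Subgroup.center P = ⊤ from eq_top_iff.2 fun t _ => Subgroup.mem_center_iff.2 fun s => hab s t,
      Subgroup.card_top]
  rw [card_center hF B, card_heis hF B] at h1
  norm_num at h1

end Cfsg.Agent.RankTwoInvol
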