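import Mathlib

/-!
A normal form for a group of order 64, and the resulting uniqueness.
-/

set_option autoImplicit false
set_option linter.all false

namespace Cfsg.Agent.RankTwoInvol

/-- Index set of the normal forms. -/
abbrev Idx : Type := (ZMod 4 × ZMod 4) × (Bool × Bool)

/-- The action of the generators on the abelian part. -/
def actX (p : ZMod 4 × ZMod 4) : ZMod 4 × ZMod 4 := (p.1 + 2 * p.2, 2 * p.1 + p.2)

def actY (p : ZMod 4 × ZMod 4) : ZMod 4 × ZMod 4 := (3 * p.1 + 2 * p.2, 3 * p.2)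

def actB (k : Bool) (f : ZMod 4 × ZMod 4 → ZMod 4 × ZMod 4) (p : ZMod 4 × ZMod 4) : ZMod 4 × ZMod 4 :=
  if k then f p else p

/-- The product of two normal forms. -/
def mulIdx (a b : Idx) : Idx :=
  (a.1 + actB a.2.1 actX (actB a.2.2 actY b.1) +
      (if a.2.1 && b.2.1 then (2, 0) else (0, 0)) + (if a.2.2 && b.2.2 then (0, 2) else (0, 0)),
    (xor a.2.1 b.2.1, xor a.2.2 b.2.2))

/-- Generators with the relations determining the group. -/
structure Gens (T : Type*) [Group T] where
  x : T
  y : T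
  e : T
  f : T
  e4 : e ^ 4 = 1
  f4 : f ^ 4 = 1
  ef : e * f = f * e
  xy : x * y = y * x
  xx : x * x = e ^ 2
  yy : y * y = f ^ 2
  xe : x * e = e * f ^ 2 * x
  xf : x * f = e ^ 2 * f * x
  ye : y * e = e ^ 3 * y
  yf : y * f = e ^ 2 * f ^ 3 * y
  bij : Function.Bijective fun a : Idx =>
    (e ^ a.1.1.val * f ^ a.1.2.val) * ((if a.2.1 then x else 1) * (if a.2.2 then y else 1))

namespace Gens

variable {T : Type*} [Group T] (g : Gens T)

/-- The abelian part. -/
def ab (p : ZMod 4 × ZMod 4) : T := g.e ^ p.1.val * g.f ^ p.2.val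

/-- The normal form. -/
def nf (a : Idx) : T := g.ab a.1 * ((if a.2.1 then g.x else 1) * (if a.2.2 then g.y else 1))

theorem commute_ef (i j : ℕ) : Commute (g.e ^ i) (g.f ^ j) := Commute.pow_pow g.ef i j

theorem ab_nat (i j : ℕ) : g.e ^ i * g.f ^ j = g.ab ((i : ZMod 4), (j : ZMod 4)) := by
  unfold ab
  rw [ZMod.val_natCast, ZMod.val_natCast]
  congr 1
  · conv_lhs => rw [← Nat.mod_add_div i 4, pow_add, pow_mul, g.e4, one_pow, mul_one]
  · conv_lhs => rw [← Nat.mod_add_div j 4, pow_add, pow_mul, g.f4, one_pow, mul_one]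

theorem ab_add (p q : ZMod 4 × ZMod 4) : g.ab p * g.ab q = g.ab (p + q) := by
  unfold ab
  rw [(g.commute_ef q.1.val p.2.val).symm.mul_mul_mul_comm, ← pow_add, ← pow_add, g.ab_nat]
  simp only [Nat.cast_add, ZMod.natCast_zmod_val]
  rfl

theorem conj_pow {z u v : T} (h : z * u = v * z) (n : ℕ) : z * u ^ n = v ^ n * z :=
  (SemiconjBy.pow_right (show SemiconjBy z u v from h) n)

theorem x_ab (p : ZMod 4 × ZMod 4) : g.x * g.ab p = g.ab (actX p) * g.x := by
  conv_lhs => rw [ab, ← mul_assoc, conj_pow g.xe, mul_assoc, conj_pow g.xf, ← mul_assoc]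
  congr 1
  rw [show g.e * g.f ^ 2 = g.e ^ 1 * g.f ^ 2 by rw [pow_one],
    show g.e ^ 2 * g.f = g.e ^ 2 * g.f ^ 1 by rw [pow_one],
    (g.commute_ef _ _).mul_pow, (g.commute_ef _ _).mul_pow, ← pow_mul, ← pow_mul, ← pow_mul, ← pow_mul,
    g.ab_nat, g.ab_nat, g.ab_add]
  simp [actX, Nat.cast_mul, ZMod.natCast_zmod_val]

theorem y_ab (p : ZMod 4 × ZMod 4) : g.y * g.ab p = g.ab (actY p) * g.y := by
  conv_lhs => rw [ab, ← mul_assoc, conj_pow g.ye, mul_assoc, conj_pow g.yf, ← mul_assoc]
  congr 1
  rw [(g.commute_ef _ _).mul_pow, ← pow_mul, ← pow_mul, ← pow_mul, ← mul_assoc, ← pow_add, g.ab_nat]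
  simp [actY, Nat.cast_mul, ZMod.natCast_zmod_val]

theorem x_k_ab (k : Bool) (p : ZMod 4 × ZMod 4) :
    (if k then g.x else 1) * g.ab p = g.ab (actB k actX p) * (if k then g.x else 1) := by
  cases k <;> simp [actB, g.x_ab]

theorem y_k_ab (k : Bool) (p : ZMod 4 × ZMod 4) :
    (if k then g.y else 1) * g.ab p = g.ab (actB k actY p) * (if k then g.y else 1) := by
  cases k <;> simp [actB, g.y_ab]

theorem ab_zero : g.ab (0, 0) = 1 := by simp [ab]

theorem xx' (k k' : Bool) : (if k then g.x else 1) * (if k' then g.x else 1) =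
    g.ab (if k && k' then (2, 0) else (0, 0)) * (if xor k k' then g.x else 1) := by
  cases k <;> cases k' <;> simp [g.ab_zero]
  rw [g.xx]
  simp [ab, show (2 : ZMod 4).val = 2 from rfl]

theorem yy' (k k' : Bool) : (if k then g.y else 1) * (if k' then g.y else 1) =
    g.ab (if k && k' then (0, 2) else (0, 0)) * (if xor k k' then g.y else 1) := by
  cases k <;> cases k' <;> simp [g.ab_zero]
  rw [g.yy]
  simp [ab, show (2 : ZMod 4).val = 2 from rfl]

theorem y_x (l k : Bool) : (if l then g.y else 1) * (if k then g.x else 1) =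
    (if k then g.x else 1) * (if l then g.y else 1) := by
  cases l <;> cases k <;> simp [g.xy]

theorem x_two (k : Bool) (l : Bool) : (if k then g.x else 1) * g.ab (if l then (0, 2) else (0, 0)) =
    g.ab (if l then (0, 2) else (0, 0)) * (if k then g.x else 1) := by
  rw [g.x_k_ab]
  cases l <;> cases k <;> simp [actB, actX, show (2 : ZMod 4) * 2 = 0 by decide]

theorem nf_mul (a b : Idx) : g.nf a * g.nf b = g.nf (mulIdx a b) := by
  obtain ⟨p, k, l⟩ := a
  obtain ⟨q, k', l'⟩ := b
  simp only [nf, mulIdx]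
  calc g.ab p * ((if k then g.x else 1) * (if l then g.y else 1)) *
        (g.ab q * ((if k' then g.x else 1) * (if l' then g.y else 1)))
      = g.ab p * (if k then g.x else 1) * ((if l then g.y else 1) * g.ab q) *
          (if k' then g.x else 1) * (if l' then g.y else 1) := by simp only [mul_assoc]
    _ = g.ab p * ((if k then g.x else 1) * g.ab (actB l actY q)) *
          ((if l then g.y else 1) * (if k' then g.x else 1)) * (if l' then g.y else 1) := by
        rw [g.y_k_ab]; simp only [mul_assoc]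
    _ = g.ab (p + actB k actX (actB l actY q)) * ((if k then g.x else 1) * (if k' then g.x else 1)) *
          ((if l then g.y else 1) * (if l' then g.y else 1)) := by
        rw [g.x_k_ab, g.y_x, ← g.ab_add]; simp only [mul_assoc]
    _ = g.ab (p + actB k actX (actB l actY q) + (if k && k' then (2, 0) else (0, 0))) *
          ((if xor k k' then g.x else 1) * g.ab (if l && l' then (0, 2) else (0, 0))) *
          (if xor l l' then g.y else 1) := by
        rw [g.xx', g.yy', ← g.ab_add (p + _)]; simp only [mul_assoc]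
    _ = _ := by
        rw [g.x_two, ← mul_assoc, g.ab_add]; simp only [mul_assoc]; congr

include g in
/-- Two groups with such generators are isomorphic. -/
theorem iso {P : Type*} [Group P] (h : Gens P) : Nonempty (T ≃* P) := by
  let eT : Idx ≃ T := Equiv.ofBijective g.nf g.bij
  let eP : Idx ≃ P := Equiv.ofBijective h.nf h.bij
  refine ⟨MulEquiv.mk' (eT.symm.trans eP) fun s t => ?_⟩
  obtain ⟨a, rfl⟩ := eT.surjective s
  obtain ⟨b, rfl⟩ := eT.surjective t
  have hmul : eT a * eT b = eT (mulIdx a b) := g.nf_mul a b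
  simp only [Equiv.trans_apply, hmul, Equiv.symm_apply_apply]
  exact (h.nf_mul a b).symm

end Gens

end Cfsg.Agent.RankTwoInvol
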