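import Mathlib
import Cfsg.Prelude.Def_Involutions

/-!
Finite 2-groups with three involutions permuted transitively by an automorphism:
basic facts and the abelian case.
-/

set_option autoImplicit false
set_option linter.all false

namespace Cfsg.Agent.RankTwoInvol

/-- A 2-group with exactly three involutions, all central, cyclically permuted by an
automorphism of 3-power order. -/
structure Data (T : Type*) [Group T] where
  r : MulAut T
  v : T
  isP : IsPGroup 2 T
  finite_order : ∃ k : ℕ, r ^ (3 ^ k) = 1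
  v_sq : v * v = 1
  v_ne : v ≠ 1
  moved : r v ≠ v
  cycle : r (r (r v)) = v
  only : ∀ t : T, t * t = 1 → t = 1 ∨ t = v ∨ t = r v ∨ t = r (r v)
  central : ∀ t : T, t * t = 1 → ∀ s : T, s * t = t * s

namespace Data

variable {T : Type*} [Group T] (D : Data T)

theorem rv_sq : D.r D.v * D.r D.v = 1 := by rw [← map_mul, D.v_sq, map_one]

theorem rrv_sq : D.r (D.r D.v) * D.r (D.r D.v) = 1 := by rw [← map_mul, D.rv_sq, map_one]

theorem rv_ne : D.r D.v ≠ 1 := fun h => D.v_ne (D.r.injective (by rw [h, map_one]))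

theorem rrv_ne : D.r (D.r D.v) ≠ 1 := fun h => D.rv_ne (D.r.injective (by rw [h, map_one]))

theorem rrv_ne_v : D.r (D.r D.v) ≠ D.v := fun h =>
  D.moved (D.r.injective (D.r.injective (by rw [D.cycle, h])))

theorem rv_ne_rrv : D.r D.v ≠ D.r (D.r D.v) := fun h => D.moved (D.r.injective h).symm

theorem involution_moved {u : T} (hu : u * u = 1) (hfix : D.r u = u) : u = 1 := by
  rcases D.only u hu with h | rfl | rfl | rfl
  · exact h
  · exact absurd hfix D.moved
  · exact absurd (D.r.injective hfix) D.moved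
  · exact absurd (D.r.injective (D.r.injective hfix)) D.moved

theorem cube_involution {u : T} (hu : u * u = 1) : D.r (D.r (D.r u)) = u := by
  rcases D.only u hu with rfl | rfl | rfl | rfl <;> simp [D.cycle]

/-- Only the identity is fixed. -/
theorem fixed_eq_one [Finite T] {t : T} (h : D.r t = t) : t = 1 := by
  obtain ⟨k, hk⟩ := D.isP t
  induction k generalizing t with
  | zero => simpa using hk
  | succ k ih =>
    have h1 : t * t = 1 := ih (by rw [map_mul, h]) (by rw [← pow_two, ← pow_mul, ← pow_succ', hk])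
    exact D.involution_moved h1 h

theorem v_mul_rv : D.v * D.r D.v = D.r (D.r D.v) := by
  have hc : (D.v * D.r D.v) * (D.v * D.r D.v) = 1 := by
    rw [mul_assoc, ← mul_assoc (D.r D.v), D.central D.v D.v_sq (D.r D.v), mul_assoc D.v, D.rv_sq,
      mul_one, D.v_sq]
  rcases D.only _ hc with h | h | h | h
  · exact absurd (mul_left_cancel (h.trans D.v_sq.symm)) D.moved
  · exact absurd (mul_left_cancel (h.trans (mul_one _).symm)) D.rv_ne
  · exact absurd (mul_right_cancel (h.trans (one_mul _).symm)) D.v_ne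
  · exact h

theorem prod_eq_one : D.v * D.r D.v * D.r (D.r D.v) = 1 := by rw [D.v_mul_rv, D.rrv_sq]

variable [Finite T]
include D

/-- A finite group whose elements have squares trivial has at most four elements here. -/
theorem card_kernel_le {A : Type*} [Group A] (i : A →* T) (hi : Function.Injective i)
    (H : Subgroup A) (hH : ∀ a ∈ H, a * a = 1) : Nat.card H ≤ 4 := by
  classical
  let g : H → ({1, D.v, D.r D.v, D.r (D.r D.v)} : Finset T) := fun a =>
    ⟨i a, by
      have h := D.only (i a) (by rw [← map_mul, hH a a.2, map_one])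
      simp only [Finset.mem_insert, Finset.mem_singleton]
      exact h⟩
  have hg : Function.Injective g := fun a b h =>
    Subtype.ext (hi (congrArg (fun z => ((z : ({1, D.v, D.r D.v, D.r (D.r D.v)} : Finset T)) : T)) h))
  refine (Nat.card_le_card_of_injective g hg).trans ?_
  rw [Nat.card_eq_fintype_card, Fintype.card_coe]
  exact Finset.card_le_four

/-- An abelian group embedded in `T` of exponent dividing `2^n` has order at most `4^n`. -/
theorem card_le {A : Type*} [CommGroup A] (i : A →* T) (hi : Function.Injective i) :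
    ∀ n, (∀ a : A, a ^ (2 ^ n) = 1) → Nat.card A ≤ 4 ^ n := by
  haveI : Finite A := Finite.of_injective i hi
  intro n
  induction n generalizing A with
  | zero =>
    intro h
    haveI : Subsingleton A := ⟨fun a b => by
      have ha := h a; have hb := h b; simp only [pow_zero, pow_one] at ha hb; rw [ha, hb]⟩
    simp
  | succ n ih =>
    intro h
    let f : A →* A := powMonoidHom 2
    have hr : Nat.card f.range ≤ 4 ^ n := by
      refine ih (i.comp f.range.subtype) (hi.comp Subtype.val_injective) inferInstance ?_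
      rintro ⟨_, a, rfl⟩
      refine Subtype.ext ?_
      show (a ^ 2) ^ (2 ^ n) = 1
      rw [← pow_mul, ← pow_succ', h]
    have hk : Nat.card f.ker ≤ 4 := D.card_kernel_le i hi f.ker fun a ha => by
      rw [← pow_two]; exact ha
    rw [← f.ker.card_mul_index, Subgroup.index_ker, pow_succ']
    exact Nat.mul_le_mul hk hr

/-- The map attached to an element of order `2^n` and its image. -/
theorem exists_coordinates {A : Type*} [CommGroup A] (i : A →* T) (hi : Function.Injective i)
    {n : ℕ} (hn : 1 ≤ n) (hexp : ∀ a : A, a ^ (2 ^ n) = 1) (a b : A)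
    (ha : a ^ (2 ^ (n - 1)) ≠ 1) (hb : i b = D.r (i a)) :
    ∃ e : Multiplicative (ZMod (2 ^ n) × ZMod (2 ^ n)) ≃* A,
      ∀ s t : ℕ, e (Multiplicative.ofAdd ((s : ZMod (2 ^ n)), (t : ZMod (2 ^ n)))) = a ^ s * b ^ t := by
  haveI : Finite A := Finite.of_injective i hi
  haveI : NeZero (2 ^ n) := ⟨by positivity⟩
  let one : A → (ZMod (2 ^ n) →+ Additive A) := fun c =>
    ZMod.lift (2 ^ n) ⟨zmultiplesHom (Additive A) (Additive.ofMul c), by
      simp only [zmultiplesHom_apply, natCast_zsmul]
      exact congrArg Additive.ofMul (hexp c)⟩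
  have hone : ∀ c (s : ℕ), one c (s : ZMod (2 ^ n)) = Additive.ofMul (c ^ s) := fun c s => by
    rw [← Int.cast_natCast]
    simp only [one, ZMod.lift_coe, zmultiplesHom_apply, natCast_zsmul]
    rfl
  let f : Multiplicative (ZMod (2 ^ n) × ZMod (2 ^ n)) →* A :=
    AddMonoidHom.toMultiplicativeLeft ((one a).coprod (one b))
  have hf : ∀ s t : ℕ,
      f (Multiplicative.ofAdd ((s : ZMod (2 ^ n)), (t : ZMod (2 ^ n)))) = a ^ s * b ^ t := fun s t => by
    show Additive.toMul ((one a).coprod (one b) (_, _)) = _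
    rw [AddMonoidHom.coprod_apply, hone, hone]
    rfl
  set u := a ^ (2 ^ (n - 1)) with hu
  have hu2 : u * u = 1 := by
    rw [hu, ← pow_two, ← pow_mul, ← pow_succ, show n - 1 + 1 = n by omega, hexp]
  have hbu : i (b ^ (2 ^ (n - 1))) = D.r (i u) := by rw [map_pow, hb, ← map_pow, ← map_pow]
  have hinj : Function.Injective f := by
    rw [← MonoidHom.ker_eq_bot_iff]
    by_contra hk
    have hp : IsPGroup 2 (Multiplicative (ZMod (2 ^ n) × ZMod (2 ^ n))) := by
      refine IsPGroup.of_card (n := n + n) ?_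
      rw [Nat.card_congr Multiplicative.toAdd, Nat.card_prod, Nat.card_zmod, pow_add]
    haveI : Nontrivial f.ker := (Subgroup.nontrivial_iff_ne_bot _).2 hk
    haveI : Fact (Nat.Prime 2) := ⟨Nat.prime_two⟩
    obtain ⟨m, hm, hcard⟩ := (hp.to_subgroup f.ker).nontrivial_iff_card.1 inferInstance
    obtain ⟨z, hz⟩ := exists_prime_orderOf_dvd_card' (G := f.ker) 2 (hcard ▸ dvd_pow_self 2 (by omega))
    have hz1 : (z : Multiplicative (ZMod (2 ^ n) × ZMod (2 ^ n))) ≠ 1 := fun h => by
      rw [← Subgroup.orderOf_coe, h, orderOf_one] at hz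
      omega
    have hz2 : (z : Multiplicative (ZMod (2 ^ n) × ZMod (2 ^ n))) ^ 2 = 1 := by
      have h := pow_orderOf_eq_one (z : Multiplicative (ZMod (2 ^ n) × ZMod (2 ^ n)))
      rwa [Subgroup.orderOf_coe, hz] at h
    have hhalf : ∀ c : ZMod (2 ^ n), 2 • c = 0 → ∃ e : ℕ, e ≤ 1 ∧ c = ((e * 2 ^ (n - 1) : ℕ) : ZMod (2 ^ n)) := by
      intro c hc
      rw [← ZMod.natCast_zmod_val c, nsmul_eq_mul, ← Nat.cast_mul, ZMod.natCast_eq_zero_iff] at hc
      obtain ⟨d, hd⟩ := hc
      have h2 : (2 : ℕ) ^ n = 2 * 2 ^ (n - 1) := by rw [← pow_succ']; congr 1; omega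
      have hlt := ZMod.val_lt c
      have hval : c.val = 2 ^ (n - 1) * d := by
        apply Nat.eq_of_mul_eq_mul_left (show 0 < 2 by norm_num)
        rw [hd, h2, mul_assoc]
      refine ⟨d, ?_, ?_⟩
      · by_contra hd2
        have : 2 ^ (n - 1) * 2 ≤ 2 ^ (n - 1) * d := Nat.mul_le_mul_left _ (by omega)
        omega
      · rw [mul_comm, ← hval, ZMod.natCast_zmod_val]
    obtain ⟨e, he, hce⟩ := hhalf (Multiplicative.toAdd (z : Multiplicative (ZMod (2 ^ n) × ZMod (2 ^ n)))).1
      (by rw [← Prod.smul_fst, ← toAdd_pow, hz2]; rfl)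
    obtain ⟨e', he', hce'⟩ := hhalf (Multiplicative.toAdd (z : Multiplicative (ZMod (2 ^ n) × ZMod (2 ^ n)))).2
      (by rw [← Prod.smul_snd, ← toAdd_pow, hz2]; rfl)
    have hzeq : (z : Multiplicative (ZMod (2 ^ n) × ZMod (2 ^ n))) =
        Multiplicative.ofAdd (((e * 2 ^ (n - 1) : ℕ) : ZMod (2 ^ n)), ((e' * 2 ^ (n - 1) : ℕ) : ZMod (2 ^ n))) := by
      rw [← hce, ← hce']; rfl
    have h0 : f z = 1 := z.2
    rw [hzeq, hf, mul_comm e, mul_comm e', pow_mul, pow_mul, ← hu] at h0
    have h1 : i u ^ e * D.r (i u) ^ e' = 1 := by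
      rw [← hbu, ← map_pow, ← map_pow, ← map_mul, h0, map_one]
    have hiu : i u * i u = 1 := by rw [← map_mul, hu2, map_one]
    have hne : i u ≠ 1 := fun h => ha (hi (h.trans (map_one i).symm))
    interval_cases e <;> interval_cases e' <;> simp at h1
    · exact hz1 (by rw [hzeq]; simp)
    · exact hne h1
    · exact hne h1
    · refine hne (D.involution_moved hiu ?_)
      exact mul_left_cancel (h1.trans hiu.symm)
  refine ⟨MulEquiv.ofBijective f ((Nat.bijective_iff_injective_and_card f).2 ⟨hinj, ?_⟩), hf⟩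
  refine le_antisymm (Nat.card_le_card_of_injective f hinj) ?_
  rw [Nat.card_congr Multiplicative.toAdd, Nat.card_prod, Nat.card_zmod]
  calc Nat.card A ≤ 4 ^ n := D.card_le i hi n hexp
    _ = 2 ^ n * 2 ^ n := by rw [← mul_pow]; norm_num

/-- Existence of an exponent and a generator. -/
theorem exists_top_element {A : Type*} [CommGroup A] [Nontrivial A] (i : A →* T) (hi : Function.Injective i) :
    ∃ n : ℕ, 1 ≤ n ∧ (∀ a : A, a ^ (2 ^ n) = 1) ∧ ∃ a : A, a ^ (2 ^ (n - 1)) ≠ 1 := by
  classical
  haveI : Finite A := Finite.of_injective i hi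
  have hA : IsPGroup 2 A := D.isP.of_injective i hi
  haveI : Fact (Nat.Prime 2) := ⟨Nat.prime_two⟩
  obtain ⟨m, hm⟩ := hA.exists_card_eq
  have hex : ∃ n, ∀ a : A, a ^ (2 ^ n) = 1 := ⟨m, fun a => hm ▸ pow_card_eq_one'⟩
  have h1 : 1 ≤ Nat.find hex := by
    by_contra h
    obtain ⟨a, ha⟩ := exists_ne (1 : A)
    have := Nat.find_spec hex a
    rw [show Nat.find hex = 0 by omega] at this
    exact ha (by simpa using this)
  refine ⟨Nat.find hex, h1, Nat.find_spec hex, ?_⟩
  have := Nat.find_min hex (show Nat.find hex - 1 < Nat.find hex by omega)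
  push Not at this
  exact this

/-- The abelian case. -/
theorem homocyclic (hc : ∀ a b : T, a * b = b * a) :
    ∃ n : ℕ, 1 ≤ n ∧ Nonempty (T ≃* Multiplicative (ZMod (2 ^ n) × ZMod (2 ^ n))) := by
  letI : CommGroup T := { (inferInstance : Group T) with mul_comm := hc }
  haveI : Nontrivial T := ⟨D.v, 1, D.v_ne⟩
  obtain ⟨n, hn, hexp, a, ha⟩ := D.exists_top_element (MonoidHom.id T) Function.injective_id
  obtain ⟨e, -⟩ := D.exists_coordinates (MonoidHom.id T) Function.injective_id hn hexp a (D.r a) ha rfl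
  exact ⟨n, hn, ⟨e.symm⟩⟩

end Data

end Cfsg.Agent.RankTwoInvol
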