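import Cfsg.Agent.Lib.RankTwoInvol.Basic
import Cfsg.Agent.Lib.Cores.Nilpotent

/-!
A maximal invariant abelian normal subgroup is self-centralizing.
-/

set_option autoImplicit false
set_option linter.all false

namespace Cfsg.Agent.RankTwoInvol

open Subgroup
open scoped commutatorElement

namespace Data

variable {T : Type*} [Group T] (D : Data T)

/-- An invariant abelian normal subgroup containing the involutions. -/
structure Adm (A : Subgroup T) : Prop where
  normal : A.Normal
  inv : ∀ a ∈ A, D.r a ∈ A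
  comm : ∀ a ∈ A, ∀ b ∈ A, a * b = b * a
  invol : ∀ t : T, t * t = 1 → t ∈ A

/-- The candidates for enlarging `A`. -/
structure Cand (A : Subgroup T) (x : T) : Prop where
  cent : ∀ a ∈ A, x * a = a * x
  sq : x * x ∈ A
  comm : ∀ s : T, ⁅s, x⁆ ∈ A

/-- The subgroup of involutions. -/
def invols : Subgroup T where
  carrier := {t | t * t = 1}
  one_mem' := mul_one 1
  mul_mem' := by
    intro a b ha hb
    show a * b * (a * b) = 1
    rw [mul_assoc, ← mul_assoc b, D.central a ha b, mul_assoc a, hb, mul_one, ha]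
  inv_mem' := by
    intro a ha
    show a⁻¹ * a⁻¹ = 1
    rw [← mul_inv_rev, ha, inv_one]

theorem adm_invols : D.Adm D.invols where
  normal := ⟨fun a ha g => by
    have : g * a * g⁻¹ = a := by rw [D.central a ha g, mul_inv_cancel_right]
    rw [this]; exact ha⟩
  inv := fun a ha => by
    show D.r a * D.r a = 1
    rw [← map_mul, ha, map_one]
  comm := fun a ha b _ => (D.central a ha b).symm
  invol := fun t ht => ht

variable [Finite T]

theorem exists_max : ∃ A : Subgroup T, D.Adm A ∧ ∀ B, D.Adm B → A ≤ B → B = A := by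
  obtain ⟨A, hA, hmax⟩ := (Set.toFinite {A : Subgroup T | D.Adm A}).exists_maximal ⟨_, D.adm_invols⟩
  exact ⟨A, hA, fun B hB h => le_antisymm (hmax hB h) h⟩

/-- An element moved by a factor fixed by the cube of the automorphism is fixed. -/
theorem cube_shift {x g : T} (hx : (D.r ^ 3) x = x * g) (hg : (D.r ^ 3) g = g) : g = 1 := by
  obtain ⟨k, hk⟩ := D.finite_order
  have key : ∀ m, ((D.r ^ 3) ^ m) x = x * g ^ m := by
    intro m
    induction m with
    | zero => simp
    | succ m ih =>
      rw [pow_succ', MulAut.mul_apply, ih, map_mul, map_pow, hx, hg, mul_assoc, ← pow_succ']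
  have h1 := key (3 ^ k)
  rw [← pow_mul, mul_comm, pow_mul, hk, one_pow, MulAut.one_apply] at h1
  have h2 : g ^ (3 ^ k) = 1 := (mul_left_cancel (h1.symm.trans (mul_one x).symm))
  obtain ⟨s, hs⟩ := D.isP g
  exact orderOf_eq_one_iff.1 (Nat.eq_one_of_dvd_coprimes
    (Nat.Coprime.pow _ _ (by norm_num : Nat.Coprime 3 2))
    (orderOf_dvd_of_pow_eq_one h2) (orderOf_dvd_of_pow_eq_one hs))

theorem r_pow_three (t : T) : (D.r ^ 3) t = D.r (D.r (D.r t)) := rfl

variable {A : Subgroup T} (hA : D.Adm A)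
include hA

/-- The cube of the automorphism fixes `A`. -/
theorem cube_fix {a : T} (ha : a ∈ A) : D.r (D.r (D.r a)) = a := by
  obtain ⟨s, hs⟩ := D.isP a
  induction s generalizing a with
  | zero => rw [pow_zero, pow_one] at hs; subst hs; simp
  | succ s ih =>
    have h2 : D.r (D.r (D.r (a * a))) = a * a :=
      ih (A.mul_mem ha ha) (by rw [← pow_two, ← pow_mul, ← pow_succ', hs])
    set b := D.r (D.r (D.r a)) with hb
    have hbA : b ∈ A := hA.inv _ (hA.inv _ (hA.inv _ ha))
    set g := a⁻¹ * b with hg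
    have hc : Commute a⁻¹ b := hA.comm _ (A.inv_mem ha) _ hbA
    have hg2 : g * g = 1 := by
      rw [hg, hc.symm.mul_mul_mul_comm]
      · rw [← mul_inv_rev, show b * b = a * a by rw [hb, ← map_mul, ← map_mul, ← map_mul, h2],
          inv_mul_cancel]
    have : g = 1 := D.cube_shift (x := a) (by rw [r_pow_three, hg, mul_inv_cancel_left, hb])
      (by rw [r_pow_three]; exact D.cube_involution hg2)
    exact (inv_mul_eq_one.1 this).symm

theorem prod_fixed {a : T} (ha : a ∈ A) : a * D.r a * D.r (D.r a) = 1 := by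
  refine D.fixed_eq_one ?_
  rw [map_mul, map_mul, D.cube_fix hA ha, hA.comm _ (A.mul_mem (hA.inv _ ha) (hA.inv _ (hA.inv _ ha))) _ ha,
    mul_assoc]

theorem exists_preimage {a : T} (ha : a ∈ A) : ∃ b ∈ A, D.r b = a :=
  ⟨D.r (D.r a), hA.inv _ (hA.inv _ ha), D.cube_fix hA ha⟩

theorem cand_r {x : T} (h : Cand A x) : Cand A (D.r x) where
  cent := fun a ha => by
    obtain ⟨b, hb, rfl⟩ := D.exists_preimage hA ha
    rw [← map_mul, h.cent b hb, map_mul]
  sq := by rw [← map_mul]; exact hA.inv _ h.sq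
  comm := fun s => by
    obtain ⟨u, rfl⟩ := D.r.surjective s
    rw [← map_commutatorElement]; exact hA.inv _ (h.comm u)

theorem cand_comm {p q : T} (hp : Cand A p) (hq : Cand A q) : ⁅p, q⁆ * ⁅p, q⁆ = 1 := by
  have h1 := hq.comm p
  set c := ⁅p, q⁆ with hc
  have hcp := hp.cent c h1
  have h2 : (p * p) * q = c * c * (q * (p * p)) := by
    have hpq : p * q = c * (q * p) := by rw [hc, commutatorElement_def]; group
    calc (p * p) * q = p * (p * q) := mul_assoc _ _ _
      _ = p * c * q * p := by rw [hpq]; group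
      _ = c * (p * q) * p := by rw [hcp]; group
      _ = c * c * (q * (p * p)) := by rw [hpq]; group
  rw [hq.cent _ hp.sq] at h2
  have h3 : (1 : T) * (p * p * q) = c * c * (p * p * q) := by rw [one_mul]; exact h2
  exact (mul_right_cancel h3).symm

theorem sq_mul {p q : T} (hp : Cand A p) (hq : Cand A q) : p * q * (p * q) = ⁅q, p⁆ * (p * p) * (q * q) := by
  have hz := D.central _ (D.cand_comm hA hq hp)
  have hqp : q * p = ⁅q, p⁆ * (p * q) := by rw [commutatorElement_def]; group
  calc p * q * (p * q) = p * (q * p) * q := by group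
    _ = p * ⁅q, p⁆ * p * q * q := by rw [hqp]; group
    _ = _ := by rw [hz p]; group

theorem cand_mul {p q : T} (hp : Cand A p) (hq : Cand A q) : Cand A (p * q) where
  cent := fun a ha => by rw [mul_assoc, hq.cent a ha, ← mul_assoc, hp.cent a ha, mul_assoc]
  sq := by
    rw [D.sq_mul hA hp hq]
    exact A.mul_mem (A.mul_mem (hA.invol _ (D.cand_comm hA hq hp)) hp.sq) hq.sq
  comm := fun s => by
    have h : ⁅s, p * q⁆ = ⁅s, p⁆ * (p * ⁅s, q⁆ * p⁻¹) := by simp only [commutatorElement_def]; group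
    rw [h]
    exact A.mul_mem (hp.comm s) (hA.normal.conj_mem _ (hq.comm s) p)

theorem cand_of_mem {a : T} (ha : a ∈ A) : Cand A a where
  cent := fun b hb => hA.comm a ha b hb
  sq := A.mul_mem ha ha
  comm := fun s => by
    rw [commutatorElement_def]
    exact A.mul_mem (hA.normal.conj_mem a ha s) (A.inv_mem ha)

theorem cand_inv {p : T} (hp : Cand A p) : Cand A p⁻¹ := by
  have h : p⁻¹ = p * (p * p)⁻¹ := by group
  rw [h]
  exact D.cand_mul hA hp (D.cand_of_mem hA (A.inv_mem hp.sq))

/-- A maximal subgroup has no candidates of this kind. -/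
theorem pair_extend (hmax : ∀ B, D.Adm B → A ≤ B → B = A) {x : T} (hx : Cand A x)
    (hz : x * D.r x * D.r (D.r x) ∈ A) : x ∈ A := by
  set y := D.r x with hy
  have hy' : Cand A y := D.cand_r hA hx
  have hc2 := D.cand_comm hA hx hy'
  set a := x * y * D.r y with ha
  have hry : D.r y = y⁻¹ * x⁻¹ * a := by rw [ha]; group
  set c := ⁅x, y⁆ with hc
  have hcz := D.central c hc2
  have hfix : D.r c = c := by
    rw [hc, map_commutatorElement, ← hy, hry]
    calc ⁅y, y⁻¹ * x⁻¹ * a⁆ = x⁻¹ * (a * y⁻¹ * a⁻¹) * x * y := by rw [commutatorElement_def]; group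
      _ = x⁻¹ * y⁻¹ * x * y := by
          rw [show a * y⁻¹ * a⁻¹ = y⁻¹ by rw [← (D.cand_inv hA hy').cent a hz, mul_inv_cancel_right]]
      _ = x⁻¹ * (y⁻¹ * (x * y)) := by group
      _ = x⁻¹ * (y⁻¹ * (⁅x, y⁆ * (y * x))) := by rw [commutatorElement_def]; group
      _ = x⁻¹ * ((y⁻¹ * ⁅x, y⁆) * (y * x)) := by group
      _ = ⁅x, y⁆ := by
          rw [← hc, hcz, mul_assoc, inv_mul_cancel_left, ← mul_assoc, hcz, mul_assoc, inv_mul_cancel, mul_one]
  have hxy : x * y = y * x := commutatorElement_eq_one_iff_mul_comm.1 (D.involution_moved hc2 hfix)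
  set S : Set T := (A : Set T) ∪ {x, y} with hS
  set B := closure S with hB
  have hAB : A ≤ B := fun t ht => subset_closure (Or.inl ht)
  have hxB : x ∈ B := subset_closure (Or.inr (Or.inl rfl))
  have hyB : y ∈ B := subset_closure (Or.inr (Or.inr rfl))
  have hcand : ∀ s ∈ S, Cand A s := by
    rintro s (hs | rfl | rfl)
    exacts [D.cand_of_mem hA hs, hx, hy']
  have hpair : ∀ s ∈ S, ∀ t ∈ S, s * t = t * s := by
    rintro s hs t (ht | rfl | rfl)
    · exact (hcand s hs).cent t ht
    all_goals rcases hs with hs | rfl | rfl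
    exacts [(hx.cent s hs).symm, rfl, hxy.symm, (hy'.cent s hs).symm, hxy, rfl]
  have hcomm : ∀ s ∈ B, ∀ t ∈ B, s * t = t * s := by
    have h1 : B ≤ centralizer S := (closure_le _).2 fun s hs => mem_centralizer_iff.2 fun t ht => hpair t ht s hs
    intro s hs t ht
    have h2 : B ≤ centralizer (B : Set T) := (closure_le _).2 fun u hu =>
      mem_centralizer_iff.2 fun w hw => (mem_centralizer_iff.1 (h1 hw) u hu).symm
    exact mem_centralizer_iff.1 (h2 ht) s hs
  have hBadm : D.Adm B :=
    { normal := ⟨fun b hb g => by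
        have hle : B ≤ B.comap (MulAut.conj g).toMonoidHom := by
          rw [hB, closure_le]
          intro s hs
          show g * s * g⁻¹ ∈ B
          rw [show g * s * g⁻¹ = ⁅g, s⁆ * s by rw [commutatorElement_def, inv_mul_cancel_right]]
          exact B.mul_mem (hAB ((hcand s hs).comm g)) (subset_closure hs)
        exact hle hb⟩
      inv := by
        intro b hb
        have hle : B ≤ B.comap D.r.toMonoidHom := by
          rw [hB, closure_le]
          rintro s (hs | rfl | rfl)
          · exact hAB (hA.inv _ hs)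
          · exact hyB
          · show D.r y ∈ B
            rw [hry]
            exact B.mul_mem (B.mul_mem (B.inv_mem hyB) (B.inv_mem hxB)) (hAB hz)
        exact hle hb
      comm := hcomm
      invol := fun t ht => hAB (hA.invol t ht) }
  exact (hmax B hBadm hAB) ▸ hxB

/-- An element whose square is a square in `A` lies in `A`. -/
theorem mem_of_sq {x a : T} (hx : Cand A x) (ha : a ∈ A) (h : x * x = a * a) : x ∈ A := by
  have h1 : x * a⁻¹ * (x * a⁻¹) = 1 := by
    have hc : Commute x a⁻¹ := hx.cent _ (A.inv_mem ha)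
    rw [hc.symm.mul_mul_mul_comm, h]
    group
  have := A.mul_mem (hA.invol _ h1) ha
  rwa [inv_mul_cancel_right] at this

/-- When the involutions are squares in `A` there are no candidates outside `A`. -/
theorem cand_mem_of_squares (hmax : ∀ B, D.Adm B → A ≤ B → B = A)
    (hsq : ∀ u : T, u * u = 1 → ∃ a ∈ A, a * a = u) {x : T} (hx : Cand A x) : x ∈ A := by
  have hy := D.cand_r hA hx
  have hz := D.cand_r hA hy
  refine D.pair_extend hA hmax hx ?_
  have hxy := D.cand_mul hA hx hy
  obtain ⟨a, ha, hac⟩ := hsq _ (D.cand_comm hA hz hxy)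
  obtain ⟨b, hb, hbc⟩ := hsq _ (D.cand_comm hA hy hx)
  refine D.mem_of_sq hA (D.cand_mul hA hxy hz) (A.mul_mem ha hb) ?_
  rw [D.sq_mul hA hxy hz, D.sq_mul hA hx hy, ← hac, ← hbc,
    (show Commute a b from hA.comm _ ha _ hb).symm.mul_mul_mul_comm]
  have h := D.prod_fixed hA hx.sq
  simp only [map_mul] at h
  calc a * a * (b * b * (x * x) * (D.r x * D.r x)) * (D.r (D.r x) * D.r (D.r x))
      = a * a * (b * b) * (x * x * (D.r x * D.r x) * (D.r (D.r x) * D.r (D.r x))) := by group
    _ = _ := by rw [h, mul_one]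

set_option maxHeartbeats 1000000 in
/-- The elementary case: candidates are bounded. -/
theorem cand_mem_of_elementary (hmax : ∀ B, D.Adm B → A ≤ B → B = A) (hel : ∀ a ∈ A, a * a = 1)
    {x₁ : T} (hx₁ : Cand A x₁) : x₁ ∈ A := by
  classical
  by_contra hout
  have hAz : ∀ a ∈ A, ∀ s : T, s * a = a * s := fun a ha s => D.central a (hel a ha) s
  haveI := hA.normal
  -- the set of candidates
  let W : Subgroup T :=
    { carrier := {x | Cand A x}
      one_mem' := D.cand_of_mem hA A.one_mem
      mul_mem' := fun ha hb => D.cand_mul hA ha hb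
      inv_mem' := fun ha => D.cand_inv hA ha }
  have hW : ∀ {x}, x ∈ W ↔ Cand A x := Iff.rfl
  have hAW : A ≤ W := fun a ha => D.cand_of_mem hA ha
  -- `A` has four elements
  have hAset : (A : Set T) = {1, D.v, D.r D.v, D.r (D.r D.v)} := by
    ext t
    refine ⟨fun ht => D.only t (hel t ht), ?_⟩
    rintro (rfl | rfl | rfl | rfl)
    exacts [A.one_mem, hA.invol _ D.v_sq, hA.invol _ D.rv_sq, hA.invol _ D.rrv_sq]
  have hAcard : Nat.card A = 4 := by
    rw [← SetLike.coe_sort_coe, Nat.card_coe_set_eq, hAset,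
      Set.ncard_insert_of_notMem (by simp [D.v_ne.symm, D.rv_ne.symm, D.rrv_ne.symm]),
      Set.ncard_insert_of_notMem (by simp [D.moved.symm, D.rrv_ne_v.symm]),
      Set.ncard_pair D.rv_ne_rrv]
  -- the commutator map attached to a candidate
  have hcmem : ∀ {x y}, Cand A x → Cand A y → ⁅x, y⁆ ∈ A := fun hx hy => hA.invol _ (D.cand_comm hA hx hy)
  have hbil : ∀ {x y z}, Cand A x → Cand A z → ⁅x, y * z⁆ = ⁅x, y⁆ * ⁅x, z⁆ := fun {x y z} hx hz => by
    have h : ⁅x, y * z⁆ = ⁅x, y⁆ * (y * ⁅x, z⁆ * y⁻¹) := by simp only [commutatorElement_def]; group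
    rw [h, hAz _ (hcmem hx hz) y, mul_inv_cancel_right]
  let φ : ∀ x : W, W →* A := fun x => MonoidHom.mk' (fun y => ⟨⁅(x : T), (y : T)⁆, hcmem x.2 y.2⟩)
    fun y z => Subtype.ext (hbil x.2 z.2)
  set x : W := ⟨x₁, hx₁⟩ with hx
  set K := (φ x).ker with hK
  have hWK : Nat.card W ≤ Nat.card K * 4 := by
    rw [← K.card_mul_index, hK, Subgroup.index_ker, ← hAcard]
    exact Nat.mul_le_mul_left _ (Subgroup.card_le_card_group _)
  set v₀ := x₁ * x₁ with hv₀
  have hv₀A : v₀ ∈ A := hx₁.sq
  have hv₀1 : v₀ ≠ 1 := fun h => hout (hA.invol _ h)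
  set S : Set T := (A : Set T) ∪ {p | p * x₁ ∈ A} with hS
  have hScard : S.ncard ≤ 8 := by
    refine (Set.ncard_union_le _ _).trans ?_
    have h2 : {p : T | p * x₁ ∈ A}.ncard ≤ (A : Set T).ncard :=
      Set.ncard_le_ncard_of_injOn (fun p => p * x₁) (fun p hp => hp) (fun p _ q _ h => mul_right_cancel h)
        (Set.toFinite _)
    have hA4 : (A : Set T).ncard = 4 := by
      rw [← Nat.card_coe_set_eq]; exact hAcard
    omega
  -- outside `S` the square avoids `1` and `v₀`
  have havoid : ∀ y : W, y ∈ K → (y : T) ∉ S →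
      (y : T) * y ≠ 1 ∧ (y : T) * y ≠ v₀ ∧ (y : T) * y ∈ A := by
    intro y hy hyS
    refine ⟨fun h => hyS (Or.inl (hA.invol _ h)), fun h => hyS (Or.inr (hA.invol _ ?_)), y.2.sq⟩
    have h0 : ⁅x₁, (y : T)⁆ = 1 := congrArg Subtype.val hy
    rw [D.sq_mul hA y.2 hx₁, h0, one_mul, h]
    exact hel _ hv₀A
  have htwo : ∀ {a b : T}, a ∈ A → b ∈ A → a ≠ 1 → a ≠ v₀ → b ≠ 1 → b ≠ v₀ → a * b = 1 ∨ a * b = v₀ := by
    intro a b ha hb ha1 ha0 hb1 hb0
    by_cases hab : a = b
    · subst hab; exact Or.inl (hel a ha)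
    refine Or.inr ?_
    by_contra hne
    have hab1 : a * b ≠ 1 := fun h => hab (mul_right_cancel (h.trans (hel b hb).symm))
    have haba : a * b ≠ a := fun h => hb1 (mul_left_cancel (h.trans (mul_one a).symm))
    have habb : a * b ≠ b := fun h => ha1 (mul_right_cancel (h.trans (one_mul b).symm))
    have hsub : ({1, a, b, a * b, v₀} : Set T) ⊆ A := by
      rintro z (rfl | rfl | rfl | rfl | rfl)
      exacts [A.one_mem, ha, hb, A.mul_mem ha hb, hv₀A]
    have h := Set.ncard_le_ncard hsub (Set.toFinite _)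
    rw [Set.ncard_insert_of_notMem (by simp [ha1.symm, hb1.symm, hab1.symm, hv₀1.symm]),
      Set.ncard_insert_of_notMem (by simp [hab, haba.symm, ha0]),
      Set.ncard_insert_of_notMem (by simp [habb.symm, hb0]),
      Set.ncard_pair hne, ← Nat.card_coe_set_eq (A : Set T)] at h
    change 2 + 1 + 1 + 1 ≤ Nat.card A at h
    omega
  have hK32 : Nat.card K ≤ 32 := by
    by_cases hKS : ∀ y : W, y ∈ K → (y : T) ∈ S
    · calc Nat.card K ≤ Nat.card S :=
            Nat.card_le_card_of_injective (fun y : K => (⟨((y : W) : T), hKS y y.2⟩ : S))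
              fun a b h => Subtype.ext (Subtype.ext (congrArg (fun z : S => (z : T)) h))
        _ ≤ 32 := by rw [Nat.card_coe_set_eq]; omega
    push Not at hKS
    obtain ⟨y, hyK, hyS⟩ := hKS
    let Z : Subgroup A := zpowers ⟨v₀, hv₀A⟩
    haveI : Z.Normal := ⟨fun n hn g => by
      have : g * n * g⁻¹ = n := Subtype.ext (by
        show (g : T) * n * (g : T)⁻¹ = n
        rw [hAz _ n.2 g, mul_inv_cancel_right])
      rwa [this]⟩
    let ψ : K →* A ⧸ Z := (QuotientGroup.mk' Z).comp ((φ y).comp K.subtype)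
    have hZ : 2 ≤ Nat.card Z := by
      haveI : Nontrivial Z := (Subgroup.nontrivial_iff_ne_bot _).2 fun h =>
        hv₀1 (congrArg Subtype.val (Subgroup.zpowers_eq_bot.1 h))
      exact Finite.one_lt_card
    have hidx : Nat.card (A ⧸ Z) ≤ 2 := by
      have h := Z.card_eq_card_quotient_mul_card_subgroup
      rw [hAcard] at h
      by_contra hgt
      have : 3 * 2 ≤ Nat.card (A ⧸ Z) * Nat.card Z := Nat.mul_le_mul (by omega) hZ
      omega
    have hker : Nat.card ψ.ker ≤ 16 := by
      have hsub : ∀ z : ψ.ker, (((z : K) : W) : T) ∈ S ∪ (fun p => (y : T)⁻¹ * p) '' S := by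
        intro z
        by_cases hzS : (((z : K) : W) : T) ∈ S
        · exact Or.inl hzS
        refine Or.inr ⟨(y : T) * ((z : K) : W), ?_, inv_mul_cancel_left _ _⟩
        by_contra hyz
        obtain ⟨a1, a0, aA⟩ := havoid y hyK hyS
        obtain ⟨b1, b0, bA⟩ := havoid _ (z : K).2 hzS
        obtain ⟨c1, c0, -⟩ := havoid (y * ((z : K) : W)) (K.mul_mem hyK (z : K).2) hyz
        simp only [Subgroup.coe_mul] at c1 c0
        rw [D.sq_mul hA y.2 ((z : K) : W).2, mul_assoc] at c1 c0
        have hcz : ⁅(((z : K) : W) : T), (y : T)⁆ = 1 ∨ ⁅(((z : K) : W) : T), (y : T)⁆ = v₀ := by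
          have h := z.2
          rw [MonoidHom.mem_ker] at h
          have h' : (φ y) ((z : K) : W) ∈ Z := (QuotientGroup.eq_one_iff _).1 h
          obtain ⟨m, hm⟩ := Subgroup.mem_zpowers_iff.1 h'
          have hm' := congrArg (fun a : A => (a : T)) hm
          simp only [SubgroupClass.coe_zpow] at hm'
          have hm2 : ⁅(y : T), (((z : K) : W) : T)⁆ = v₀ ^ m := hm'.symm
          rw [← commutatorElement_inv, hm2, ← zpow_neg]
          have hsq : v₀ ^ (2 : ℤ) = 1 := by rw [zpow_two]; exact hel _ hv₀A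
          rcases Int.emod_two_eq_zero_or_one (-m) with h0 | h0
          · left
            rw [← Int.emod_add_mul_ediv (-m) 2, h0, zero_add, zpow_mul, hsq, one_zpow]
          · right
            rw [← Int.emod_add_mul_ediv (-m) 2, h0, zpow_add, zpow_mul, hsq, one_zpow, zpow_one, mul_one]
        rcases htwo aA bA a1 a0 b1 b0 with h | h <;> rcases hcz with hc | hc <;> rw [h, hc] at c1 c0
        · exact c1 (one_mul 1)
        · exact c0 (mul_one _)
        · exact c0 (one_mul _)
        · exact c1 (hel _ hv₀A)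
      refine (Nat.card_le_card_of_injective
        (fun z : ψ.ker => (⟨_, hsub z⟩ : (S ∪ (fun p => (y : T)⁻¹ * p) '' S : Set T)))
        fun a b h => by simp only [Subtype.mk.injEq] at h; exact Subtype.ext (Subtype.ext (Subtype.ext h))).trans ?_
      rw [Nat.card_coe_set_eq]
      refine (Set.ncard_union_le _ _).trans ?_
      have := Set.ncard_image_le (s := S) (f := fun p => (y : T)⁻¹ * p)
      omega
    rw [← ψ.ker.card_mul_index, Subgroup.index_ker]
    exact Nat.mul_le_mul hker ((Subgroup.card_le_card_group _).trans hidx)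
  -- the quotient
  let U : Subgroup (T ⧸ A) := W.map (QuotientGroup.mk' A)
  have hUcard : Nat.card U * 4 = Nat.card W := by
    have h1 := ((QuotientGroup.mk' A).comp W.subtype).ker.card_mul_index
    rw [Subgroup.index_ker, MonoidHom.range_comp, Subgroup.range_subtype] at h1
    have h2 : ((QuotientGroup.mk' A).comp W.subtype).ker = A.subgroupOf W := by
      rw [← MonoidHom.comap_ker, QuotientGroup.ker_mk']; rfl
    rw [h2, Nat.card_congr (Subgroup.subgroupOfEquivOfLe hAW).toEquiv, hAcard] at h1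
    rw [mul_comm]; exact h1
  -- the induced automorphism
  have hmap : A.map (D.r : T →* T) = A := by
    refine le_antisymm (by rintro _ ⟨a, ha, rfl⟩; exact hA.inv a ha) fun a ha => ?_
    obtain ⟨b, hb, hba⟩ := D.exists_preimage hA ha
    exact ⟨b, hb, hba⟩
  let σ : MulAut (T ⧸ A) := QuotientGroup.congr A A D.r hmap
  have hσ : ∀ t : T, σ (t : T ⧸ A) = ((D.r t : T) : T ⧸ A) := fun t => rfl
  let sq : T ⧸ A → T := fun u => u.out * u.out
  have hsq : ∀ t : T, sq (t : T ⧸ A) = t * t := fun t => by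
    obtain ⟨a, ha⟩ := QuotientGroup.mk_out_eq_mul A t
    show (QuotientGroup.mk (s := A) t).out * (QuotientGroup.mk (s := A) t).out = _
    rw [ha, mul_assoc, ← mul_assoc (a : T), ← hAz _ a.2 t, mul_assoc t, hel _ a.2, mul_one]
  have hsqσ : ∀ u, sq (σ u) = D.r (sq u) := fun u => by
    induction u using QuotientGroup.induction_on with
    | _ t => rw [hσ, hsq, hsq, map_mul]
  have hσU : ∀ u, u ∈ U → σ u ∈ U := by
    rintro _ ⟨w, hw, rfl⟩
    exact ⟨D.r w, D.cand_r hA hw, rfl⟩
  have hbij : Function.Bijective (fun u : U => (⟨σ u, hσU u u.2⟩ : U)) :=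
    Finite.injective_iff_bijective.1 fun a b h => Subtype.ext (σ.injective (congrArg Subtype.val h))
  let τ : Equiv.Perm U := Equiv.ofBijective _ hbij
  let F : T → Set U := fun w => {u | sq u = w}
  have hshift : ∀ w, (F w).ncard = (F (D.r w)).ncard := fun w => by
    refine Set.ncard_congr (fun u _ => τ u) (fun u hu => ?_) (fun a b _ _ h => τ.injective h) fun b hb => ?_
    · show sq (σ u) = D.r w
      rw [hsqσ]; exact congrArg D.r hu
    · refine ⟨τ.symm b, ?_, τ.apply_symm_apply b⟩
      refine D.r.injective ?_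
      rw [← hsqσ]
      have h := congrArg (fun u : U => (u : T ⧸ A)) (τ.apply_symm_apply b)
      rw [show σ ((τ.symm b : U) : T ⧸ A) = ((b : U) : T ⧸ A) from h]
      exact hb
  have hsplit : Nat.card U = 1 + 3 * (F D.v).ncard := by
    have hF1 : F 1 = {1} := by
      ext u
      obtain ⟨w, hw, hwu⟩ := u.2
      refine ⟨fun h => Subtype.ext ?_, fun h => by subst h; show sq ((1 : T) : T ⧸ A) = 1; rw [hsq, mul_one]⟩
      have h' : sq u = 1 := h
      rw [← hwu, QuotientGroup.mk'_apply, hsq] at h'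
      rw [← hwu]
      exact (QuotientGroup.eq_one_iff _).2 (hA.invol _ h')
    have hu : (Set.univ : Set U) = F 1 ∪ (F D.v ∪ (F (D.r D.v) ∪ F (D.r (D.r D.v)))) := by
      ext u
      refine ⟨fun _ => ?_, fun _ => trivial⟩
      obtain ⟨w, hw, hwu⟩ := u.2
      have h : sq u * sq u = 1 := by rw [← hwu, QuotientGroup.mk'_apply, hsq]; exact hel _ hw.sq
      rcases D.only _ h with h | h | h | h
      exacts [Or.inl h, Or.inr (Or.inl h), Or.inr (Or.inr (Or.inl h)), Or.inr (Or.inr (Or.inr h))]
    have hd : ∀ {a b : T}, a ≠ b → Disjoint (F a) (F b) := fun hab =>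
      Set.disjoint_left.2 fun u ha hb => hab ((ha : sq u = _).symm.trans hb)
    rw [← Set.ncard_univ, hu, Set.ncard_union_eq, Set.ncard_union_eq, Set.ncard_union_eq, hF1,
      Set.ncard_singleton, ← hshift (D.r D.v), ← hshift D.v]
    · ring
    · exact hd D.rv_ne_rrv
    · exact Disjoint.union_right (hd D.moved.symm) (hd D.rrv_ne_v.symm)
    · exact Disjoint.union_right (hd D.v_ne.symm)
        (Disjoint.union_right (hd D.rv_ne.symm) (hd D.rrv_ne.symm))
  have hU1 : 1 < Nat.card U := by
    haveI : Nontrivial U := ⟨⟨(x₁ : T ⧸ A), x₁, hx₁, rfl⟩, 1,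
      fun h => hout ((QuotientGroup.eq_one_iff _).1 (congrArg Subtype.val h))⟩
    exact Finite.one_lt_card
  have hex : ∃ d : ℕ, Nat.card U = 2 ^ d := by
    haveI : Fact (Nat.Prime 2) := ⟨Nat.prime_two⟩
    exact IsPGroup.exists_card_eq ((D.isP.to_quotient A).to_subgroup U)
  obtain ⟨d, hd⟩ := hex
  have hd5 : d ≤ 5 := by
    by_contra hgt
    have : 2 ^ 6 ≤ 2 ^ d := Nat.pow_le_pow_right (by norm_num) (by omega)
    omega
  have hnd : ¬ 3 ∣ (F D.v).ncard := by
    rintro ⟨e, he⟩
    interval_cases d <;> omega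
  obtain ⟨k, hk⟩ := D.finite_order
  let P : Subgroup (Equiv.Perm U) := zpowers (τ ^ 3)
  have hτ : ∀ (m : ℕ) (u : U) (w : T), (u : T ⧸ A) = (w : T ⧸ A) →
      ((τ ^ m) u : U).1 = (((D.r ^ m) w : T) : T ⧸ A) := by
    intro m
    induction m with
    | zero => intro u w h; simpa using h
    | succ m ih =>
      intro u w h
      rw [pow_succ', Equiv.Perm.mul_apply, pow_succ', MulAut.mul_apply]
      show σ ((τ ^ m) u : U).1 = _
      rw [ih u w h, hσ]
  have hP : IsPGroup 3 P := by
    rintro ⟨g, hg⟩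
    refine ⟨k, Subtype.ext ?_⟩
    obtain ⟨m, rfl⟩ := Subgroup.mem_zpowers_iff.1 hg
    rw [SubgroupClass.coe_pow, ← zpow_natCast, ← zpow_mul, mul_comm, zpow_mul, zpow_natCast]
    have h1 : τ ^ 3 ^ k = 1 := by
      ext u
      obtain ⟨w, hw, hwu⟩ := u.2
      show ((τ ^ 3 ^ k) u : U).1 = (u : T ⧸ A)
      rw [hτ _ u w hwu.symm, hk, MulAut.one_apply]; exact hwu
    rw [← pow_mul, mul_comm, pow_mul, h1, one_pow, one_zpow]
    rfl
  have hinvF : ∀ g : Equiv.Perm U, g ∈ P → ∀ u ∈ F D.v, g u ∈ F D.v := by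
    intro g hg
    obtain ⟨m, rfl⟩ : ∃ m : ℕ, (τ ^ 3) ^ m = g := (mem_powers_iff_mem_zpowers.2 hg)
    induction m with
    | zero => intro u hu; simpa using hu
    | succ m ih =>
      intro u hu
      rw [pow_succ', Equiv.Perm.mul_apply]
      have h := ih (Subgroup.pow_mem _ (Subgroup.mem_zpowers _) m) u hu
      show sq (σ (σ (σ (((τ ^ 3) ^ m) u : U).1))) = D.v
      rw [hsqσ, hsqσ, hsqσ, show sq (((τ ^ 3) ^ m) u : U).1 = D.v from h, D.cycle]
  letI : MulAction P (F D.v) :=
    { smul := fun g u => ⟨(g : Equiv.Perm U) u, hinvF g g.2 u u.2⟩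
      one_smul := fun u => rfl
      mul_smul := fun g h u => rfl }
  haveI : Fact (Nat.Prime 3) := ⟨Nat.prime_three⟩
  obtain ⟨u, hu⟩ := hP.nonempty_fixed_point_of_prime_not_dvd_card (F D.v)
    (by rw [Nat.card_coe_set_eq]; exact hnd)
  obtain ⟨w, hw, hwu⟩ := (u : U).2
  have hwne : w ∉ A := fun h => by
    have h1 : sq ((u : U) : T ⧸ A) = D.v := u.2
    rw [← hwu, QuotientGroup.mk'_apply, hsq, hel w h] at h1
    exact D.v_ne h1.symm
  have hfix3 : ((D.r (D.r (D.r w)) : T) : T ⧸ A) = (w : T ⧸ A) := by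
    have h1 := congrArg (fun z : F D.v => ((z : U) : T ⧸ A)) (hu ⟨τ ^ 3, mem_zpowers _⟩)
    rw [← D.r_pow_three, ← hτ 3 (u : U) w hwu.symm]
    exact h1.trans hwu.symm
  refine hwne (D.pair_extend hA hmax hw ?_)
  have hw1 := D.cand_r hA hw
  have hw2 := D.cand_r hA hw1
  set t := w * D.r w * D.r (D.r w) with ht
  have htW : Cand A t := D.cand_mul hA (D.cand_mul hA hw hw1) hw2
  have hcomU : ∀ {p q : T}, Cand A p → Cand A q → (p : T ⧸ A) * q = q * p := fun {p q} hp hq => by
    rw [← commutatorElement_eq_one_iff_mul_comm, ← QuotientGroup.mk'_apply, ← QuotientGroup.mk'_apply,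
      ← map_commutatorElement]
    exact (QuotientGroup.eq_one_iff _).2 (hq.comm p)
  have hfix : ((D.r t : T) : T ⧸ A) = (t : T ⧸ A) := by
    rw [ht, map_mul, map_mul, QuotientGroup.mk_mul, QuotientGroup.mk_mul, hfix3,
      ← QuotientGroup.mk_mul, hcomU (D.cand_mul hA hw1 hw2) hw, ← QuotientGroup.mk_mul,
      mul_assoc]
  rw [QuotientGroup.eq] at hfix
  refine hA.invol _ (D.fixed_eq_one ?_)
  rw [map_mul]
  have hrt : t = D.r t * ((D.r t)⁻¹ * t) := by group
  conv_rhs => rw [hrt, mul_assoc, ← mul_assoc ((D.r t)⁻¹ * t), ← hAz _ hfix (D.r t), mul_assoc (D.r t),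
    hel _ hfix, mul_one]

/-- A maximal invariant abelian normal subgroup is self-centralizing. -/
theorem centralizer_eq (hmax : ∀ B, D.Adm B → A ≤ B → B = A) {t : T} (ht : ∀ a ∈ A, t * a = a * t) : t ∈ A := by
  classical
  haveI := hA.normal
  haveI : Fact (Nat.Prime 2) := ⟨Nat.prime_two⟩
  by_contra hout
  let N : Subgroup (T ⧸ A) := (centralizer (A : Set T)).map (QuotientGroup.mk' A)
  haveI : (centralizer (A : Set T)).Normal := inferInstance
  haveI : N.Normal := Subgroup.Normal.map inferInstance _ (QuotientGroup.mk'_surjective A)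
  haveI : Group.IsNilpotent (T ⧸ A) := (D.isP.to_quotient A).isNilpotent
  have hN : N ≠ ⊥ := by
    intro h
    have : (t : T ⧸ A) ∈ N := ⟨t, mem_centralizer_iff.2 fun a ha => (ht a ha).symm, rfl⟩
    rw [h, mem_bot] at this
    exact hout ((QuotientGroup.eq_one_iff _).1 this)
  have hM := Cores.inf_center_ne_bot hN
  haveI : Nontrivial ↥(N ⊓ center (T ⧸ A)) := (Subgroup.nontrivial_iff_ne_bot _).2 hM
  obtain ⟨m, hm, hcard⟩ := ((D.isP.to_quotient A).to_subgroup (N ⊓ center (T ⧸ A))).nontrivial_iff_card.1 inferInstance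
  obtain ⟨z, hz⟩ := exists_prime_orderOf_dvd_card' (G := ↥(N ⊓ center (T ⧸ A))) 2 (hcard ▸ dvd_pow_self 2 (by omega))
  obtain ⟨⟨x, hxC, hxz⟩, hzc⟩ := z.2
  have hxA : x ∉ A := fun h => by
    rw [← Subgroup.orderOf_coe, ← hxz, QuotientGroup.mk'_apply, (QuotientGroup.eq_one_iff _).2 h, orderOf_one] at hz
    omega
  have hcand : Cand A x :=
    { cent := fun a ha => (mem_centralizer_iff.1 hxC a ha).symm
      sq := by
        have h := pow_orderOf_eq_one (z : T ⧸ A)
        rw [Subgroup.orderOf_coe, hz, ← hxz, QuotientGroup.mk'_apply, ← QuotientGroup.mk_pow,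
          QuotientGroup.eq_one_iff, pow_two] at h
        exact h
      comm := fun s => by
        rw [← QuotientGroup.eq_one_iff, ← QuotientGroup.mk'_apply, map_commutatorElement,
          commutatorElement_eq_one_iff_mul_comm, hxz]
        exact Subgroup.mem_center_iff.1 hzc _ }
  refine hxA ?_
  by_cases hel : ∀ a ∈ A, a * a = 1
  · exact D.cand_mem_of_elementary hA hmax hel hcand
  · refine D.cand_mem_of_squares hA hmax ?_ hcand
    push Not at hel
    obtain ⟨a, ha, ha2⟩ := hel
    obtain ⟨s, hs⟩ := D.isP a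
    -- a nontrivial involution which is a square in `A`
    obtain ⟨b, hb, hb1, hb2⟩ : ∃ b ∈ A, b * b ≠ 1 ∧ (b * b) * (b * b) = 1 := by
      induction s generalizing a with
      | zero => rw [pow_zero, pow_one] at hs; subst hs; simp at ha2
      | succ s ih =>
        by_cases h4 : (a * a) * (a * a) = 1
        · exact ⟨a, ha, ha2, h4⟩
        · exact ih (a * a) (A.mul_mem ha ha) h4 (by rw [← pow_two, ← pow_mul, ← pow_succ', hs])
    intro u hu
    have hr1 : D.r b * D.r b = D.r (b * b) := (map_mul _ _ _).symm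
    have hr2 : D.r (D.r b) * D.r (D.r b) = D.r (D.r (b * b)) := by rw [← map_mul, hr1]
    have hb' := hA.inv _ hb
    have hb'' := hA.inv _ hb'
    rcases D.only _ hb2 with h | h | h | h
    · exact absurd h hb1
    all_goals
      rcases D.only u hu with rfl | rfl | rfl | rfl
      · exact ⟨1, A.one_mem, mul_one 1⟩
      all_goals
        first
          | exact ⟨b, hb, h⟩
          | (refine ⟨D.r b, hb', ?_⟩; simp only [hr1, h, D.cycle]; done)
          | (refine ⟨D.r (D.r b), hb'', ?_⟩; simp only [hr2, h, D.cycle]; done)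

end Data

end Cfsg.Agent.RankTwoInvol
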