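import Cfsg.Agent.Lib.RankTwoInvol.Centralizer
import Cfsg.Agent.Lib.RankTwoInvol.Gens

/-!
The non-abelian 2-groups with three involutions cyclically permuted by an automorphism.
-/

set_option autoImplicit false
set_option linter.all false

namespace Cfsg.Agent.RankTwoInvol

open Subgroup
open scoped commutatorElement

namespace Data

variable {T : Type*} [Group T] [Finite T] (D : Data T)

variable {A : Subgroup T} (hA : D.Adm A)
  (hcen : ∀ t : T, (∀ a ∈ A, t * a = a * t) → t ∈ A)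
include hA hcen

theorem r_cube_eq (t : T) : D.r (D.r (D.r t)) = t := by
  set t' := D.r (D.r (D.r t)) with ht'
  set g := t⁻¹ * t' with hg
  have hgA : g ∈ A := by
    refine hcen _ fun a ha => ?_
    have h1 : D.r (D.r (D.r (t * a * t⁻¹))) = t * a * t⁻¹ := D.cube_fix hA (hA.normal.conj_mem a ha t)
    simp only [map_mul, map_inv, ← ht', D.cube_fix hA ha] at h1
    calc g * a = t⁻¹ * (t' * a * t'⁻¹) * t' := by rw [hg]; group
      _ = t⁻¹ * (t * a * t⁻¹) * t' := by rw [h1]
      _ = a * g := by rw [hg]; group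
  have h : g = 1 := D.cube_shift (x := t) (by rw [r_pow_three, hg, mul_inv_cancel_left, ht'])
    (by rw [r_pow_three]; exact D.cube_fix hA hgA)
  exact (inv_mul_eq_one.1 h).symm

theorem split_one (t : T) : t * D.r t * D.r (D.r t) = 1 := by
  have hinj : Function.Injective (fun s : T => s⁻¹ * D.r s) := by
    intro s u h
    have h' : s⁻¹ * D.r s = u⁻¹ * D.r u := h
    have : D.r (u * s⁻¹) = u * s⁻¹ := by
      rw [map_mul, map_inv, show D.r u = u * (s⁻¹ * D.r s) by rw [h']; group]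
      group
    exact (mul_inv_eq_one.1 (D.fixed_eq_one this)).symm
  obtain ⟨s, rfl⟩ := (Finite.injective_iff_surjective.1 hinj) t
  simp only [map_mul, map_inv, D.r_cube_eq hA hcen]
  group

theorem split_two (t : T) : t * D.r (D.r t) * D.r t = 1 := by
  have hinj : Function.Injective (fun s : T => s⁻¹ * D.r (D.r s)) := by
    intro s u h
    have h' : s⁻¹ * D.r (D.r s) = u⁻¹ * D.r (D.r u) := h
    have h2 : D.r (D.r (u * s⁻¹)) = u * s⁻¹ := by
      rw [map_mul, map_inv, map_mul, map_inv, show D.r (D.r u) = u * (s⁻¹ * D.r (D.r s)) by rw [h']; group]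
      group
    have h3 : D.r (u * s⁻¹) = u * s⁻¹ := by
      conv_lhs => rw [← h2]
      exact D.r_cube_eq hA hcen _
    exact (mul_inv_eq_one.1 (D.fixed_eq_one h3)).symm
  obtain ⟨s, rfl⟩ := (Finite.injective_iff_surjective.1 hinj) t
  simp only [map_mul, map_inv, D.r_cube_eq hA hcen]
  group

/-- The displacement `t a t⁻¹ a⁻¹` for `t` with square in `A`. -/
theorem disp {t a : T} (ht : t * t ∈ A) (ha : a ∈ A) :
    ⁅t, a⁆ * ⁅t, a⁆ = 1 ∧ ⁅t, D.r a⁆ = D.r (D.r ⁅t, a⁆) := by
  have hmem : ∀ {b}, b ∈ A → ∀ s : T, ⁅s, b⁆ ∈ A := fun hb s => (D.cand_of_mem hA hb).comm s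
  have rel : ∀ b ∈ A, ⁅t, b⁆ * D.r (D.r ⁅t, D.r (D.r b)⁆) = 1 := by
    intro b hb
    set t₁ := D.r t with h1
    set t₂ := D.r t₁ with h2
    set b₁ := D.r b with hb1
    set b₂ := D.r b₁ with hb2
    have hs := D.split_one hA hcen (t * b)
    simp only [map_mul, ← h1, ← h2, ← hb1, ← hb2] at hs
    have hsp : t * t₁ * t₂ = 1 := D.split_one hA hcen t
    have hbp : b * b₁ * b₂ = 1 := D.prod_fixed hA hb
    have hb₁A : b₁ ∈ A := hA.inv _ hb
    have hsq : t₂ * t₂ ∈ A := by rw [h2, h1, ← map_mul, ← map_mul]; exact hA.inv _ (hA.inv _ ht)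
    have h01 : t * t₁ = t₂⁻¹ := mul_eq_one_iff_eq_inv.1 hsp
    have hflip : t₂⁻¹ * b₁ * t₂ = t₂ * b₁ * t₂⁻¹ := by
      calc t₂⁻¹ * b₁ * t₂ = t₂⁻¹ * (b₁ * (t₂ * t₂)) * t₂⁻¹ := by group
        _ = t₂⁻¹ * ((t₂ * t₂) * b₁) * t₂⁻¹ := by rw [hA.comm _ hb₁A _ hsq]
        _ = t₂ * b₁ * t₂⁻¹ := by group
    have e : (t * b * t⁻¹) * (t₂ * b₁ * t₂⁻¹) * b₂ = 1 := by
      rw [← hflip]
      calc (t * b * t⁻¹) * (t₂⁻¹ * b₁ * t₂) * b₂
          = (t * b * t⁻¹) * ((t * t₁) * b₁ * t₂) * b₂ := by rw [h01]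
        _ = t * b * (t₁ * b₁) * (t₂ * b₂) := by group
        _ = 1 := hs
    have hD2 : D.r (D.r ⁅t, D.r (D.r b)⁆) = ⁅t₂, b₁⁆ := by
      rw [map_commutatorElement, map_commutatorElement, ← h1, ← h2]
      congr 1
      show D.r (D.r (D.r (D.r b))) = b₁
      rw [D.r_cube_eq hA hcen (D.r b)]
    rw [hD2, commutatorElement_def, commutatorElement_def]
    have hc1 : b⁻¹ * (t₂ * b₁ * t₂⁻¹) = (t₂ * b₁ * t₂⁻¹) * b⁻¹ :=
      hA.comm _ (A.inv_mem hb) _ (hA.normal.conj_mem _ hb₁A t₂)
    have hb2' : b⁻¹ * b₁⁻¹ = b₂ := by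
      rw [← mul_inv_rev, hA.comm _ hb₁A _ hb]
      exact mul_eq_one_iff_inv_eq.1 hbp
    calc t * b * t⁻¹ * b⁻¹ * (t₂ * b₁ * t₂⁻¹ * b₁⁻¹)
        = t * b * t⁻¹ * (b⁻¹ * (t₂ * b₁ * t₂⁻¹)) * b₁⁻¹ := by group
      _ = (t * b * t⁻¹) * (t₂ * b₁ * t₂⁻¹) * (b⁻¹ * b₁⁻¹) := by rw [hc1]; group
      _ = 1 := by rw [hb2', e]
  -- use the relation on the orbit of `a`
  set d := ⁅t, a⁆ with hd
  set d₁ := ⁅t, D.r a⁆ with hd1
  set d₂ := ⁅t, D.r (D.r a)⁆ with hd2
  have e1 : d₁ = (D.r (D.r d))⁻¹ := by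
    have := rel _ (hA.inv _ ha)
    rw [D.r_cube_eq hA hcen] at this
    exact mul_eq_one_iff_eq_inv.1 this
  have e2 : d₂ = D.r d := by
    have := rel _ (hA.inv _ (hA.inv _ ha))
    rw [show D.r (D.r (D.r (D.r a))) = D.r a by rw [D.r_cube_eq hA hcen (D.r a)]] at this
    rw [hd2, mul_eq_one_iff_eq_inv.1 this, show ⁅t, D.r a⁆ = d₁ from rfl, e1, map_inv, map_inv, inv_inv,
      D.r_cube_eq hA hcen (D.r d)]
  have e0 := rel _ ha
  rw [← hd2, e2, D.r_cube_eq hA hcen] at e0
  refine ⟨e0, ?_⟩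
  rw [e1, ← map_inv, ← map_inv, ← mul_eq_one_iff_eq_inv.1 e0]

/-- The group has the normal form. -/
theorem exists_gens (hna : ¬ ∀ a b : T, a * b = b * a) : Nonempty (Gens T) := by
  classical
  haveI := hA.normal
  haveI : Fact (Nat.Prime 2) := ⟨Nat.prime_two⟩
  have hAtop : A ≠ ⊤ := fun h => hna fun a b => hA.comm a (h ▸ mem_top a) b (h ▸ mem_top b)
  -- an element outside `A` with square in `A`
  obtain ⟨x₀, hx₀A, hx₀sq⟩ : ∃ x : T, x ∉ A ∧ x * x ∈ A := by
    haveI : Nontrivial (T ⧸ A) := QuotientGroup.nontrivial_iff.2 hAtop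
    obtain ⟨m, hm, hcard⟩ := (D.isP.to_quotient A).nontrivial_iff_card.1 inferInstance
    obtain ⟨z, hz⟩ := exists_prime_orderOf_dvd_card' (G := T ⧸ A) 2 (hcard ▸ dvd_pow_self 2 (by omega))
    obtain ⟨x, rfl⟩ := QuotientGroup.mk_surjective z
    refine ⟨x, fun h => ?_, ?_⟩
    · rw [(QuotientGroup.eq_one_iff _).2 h, orderOf_one] at hz; omega
    · have h := pow_orderOf_eq_one (x : T ⧸ A)
      rwa [hz, ← QuotientGroup.mk_pow, QuotientGroup.eq_one_iff, pow_two] at h
  -- coordinates in `A`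
  letI : CommGroup A := { (inferInstance : Group A) with mul_comm := fun a b => Subtype.ext (hA.comm _ a.2 _ b.2) }
  haveI : Nontrivial A := ⟨⟨D.v, hA.invol _ D.v_sq⟩, 1, fun h => D.v_ne (congrArg Subtype.val h)⟩
  obtain ⟨n, hn, hexp, a₀, ha₀⟩ := D.exists_top_element A.subtype Subtype.val_injective
  -- an element centralizing a pair of generators lies in `A`
  have hspan : ∀ {t : T} {c : A}, c ^ (2 ^ (n - 1)) ≠ 1 → t * c = c * t → t * D.r c = D.r c * t → t ∈ A := by
    intro t c hc h1 h2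
    obtain ⟨E, hE⟩ := D.exists_coordinates A.subtype Subtype.val_injective hn hexp c
      ⟨D.r c, hA.inv _ c.2⟩ hc rfl
    haveI : NeZero (2 ^ n) := ⟨by positivity⟩
    refine hcen t fun a ha => ?_
    obtain ⟨p, hp⟩ := E.surjective ⟨a, ha⟩
    have := hE (Multiplicative.toAdd p).1.val (Multiplicative.toAdd p).2.val
    rw [ZMod.natCast_zmod_val, ZMod.natCast_zmod_val, show Multiplicative.ofAdd ((Multiplicative.toAdd p).1, (Multiplicative.toAdd p).2) = p from rfl, hp] at this
    have ha' := congrArg Subtype.val this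
    simp only [Subgroup.coe_mul, SubgroupClass.coe_pow] at ha'
    rw [ha']
    exact ((show Commute t (c : T) from h1).pow_right _).mul_right ((show Commute t (D.r c) from h2).pow_right _)
  -- squares
  have hsquare : ∀ c : A, c ^ (2 ^ (n - 1)) = 1 → ∃ d : A, d ^ 2 = c := by
    let f : A →* A := powMonoidHom 2
    let Kn : Subgroup A := (powMonoidHom (2 ^ (n - 1)) : A →* A).ker
    have hle : f.range ≤ Kn := by
      rintro _ ⟨d, rfl⟩
      show (d ^ 2) ^ (2 ^ (n - 1)) = 1
      rw [← pow_mul, ← pow_succ', show n - 1 + 1 = n by omega, hexp]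
    obtain ⟨E, -⟩ := D.exists_coordinates A.subtype Subtype.val_injective hn hexp a₀
      ⟨D.r a₀, hA.inv _ a₀.2⟩ ha₀ rfl
    have hcard : Nat.card A = 4 ^ n := by
      rw [← Nat.card_congr E.toEquiv, Nat.card_congr Multiplicative.toAdd, Nat.card_prod, Nat.card_zmod,
        ← mul_pow]
      norm_num
    have hK : Nat.card Kn ≤ 4 ^ (n - 1) := by
      refine D.card_le (A.subtype.comp Kn.subtype) (Subtype.val_injective.comp Subtype.val_injective) _
        fun c => Subtype.ext ?_
      exact c.2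
    have hR : 4 ^ n ≤ Nat.card f.range * 4 := by
      rw [← hcard, ← f.ker.card_mul_index, Subgroup.index_ker, mul_comm]
      exact Nat.mul_le_mul_left _ (D.card_kernel_le A.subtype Subtype.val_injective f.ker fun a ha => by
        rw [← pow_two]; exact ha)
    have heq : f.range = Kn := by
      refine eq_of_le_of_card_ge hle (hK.trans ?_)
      rw [show 4 ^ n = 4 ^ (n - 1) * 4 by rw [← pow_succ, show n - 1 + 1 = n by omega]] at hR
      exact Nat.le_of_mul_le_mul_right hR (by norm_num)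
    intro c hc
    have : c ∈ f.range := by rw [heq]; exact hc
    exact this
  -- the displacement at `x₀`
  have hD := fun {t : T} (ht : t * t ∈ A) {a : T} (ha : a ∈ A) => D.disp hA hcen ht ha
  have hDsq : ∀ {t : T}, t * t ∈ A → ∀ {a : T}, a ∈ A → t * (a * a) = a * a * t := by
    intro t ht a ha
    obtain ⟨h, -⟩ := hD ht ha
    have hz := D.central _ h
    have e : t * a = ⁅t, a⁆ * (a * t) := by rw [commutatorElement_def]; group
    calc t * (a * a) = (t * a) * a := by rw [mul_assoc]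
      _ = ⁅t, a⁆ * a * (t * a) := by rw [e]; group
      _ = ⁅t, a⁆ * a * (⁅t, a⁆ * (a * t)) := by rw [← e]
      _ = (⁅t, a⁆ * ⁅t, a⁆) * (a * a * t) := by rw [mul_assoc _ a, ← mul_assoc a, hz a]; group
      _ = a * a * t := by rw [h, one_mul]
  obtain ⟨d, hd, hdx⟩ : ∃ d ∈ A, d * d = x₀ * x₀ := by
    have hxx : x₀ * (x₀ * x₀) = (x₀ * x₀) * x₀ := (mul_assoc _ _ _).symm
    obtain ⟨d, hd⟩ := hsquare ⟨x₀ * x₀, hx₀sq⟩ (by
      by_contra hc
      refine hx₀A (hspan hc hxx ?_)
      obtain ⟨-, h2⟩ := hD hx₀sq hx₀sq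
      rw [commutatorElement_eq_one_iff_mul_comm.2 hxx, map_one, map_one, commutatorElement_eq_one_iff_mul_comm] at h2
      exact h2)
    refine ⟨d, d.2, ?_⟩
    have := congrArg Subtype.val hd
    rwa [SubgroupClass.coe_pow, pow_two] at this
  -- an element outside `A` whose square is an involution
  have hsq_shift : ∀ {t a : T}, t * t ∈ A → a ∈ A → t * a * (t * a) = ⁅t, a⁆ * (t * t) * (a * a) := by
    intro t a ht ha
    obtain ⟨h, -⟩ := hD ht ha
    have hz := D.central _ h
    have hinv : (⁅t, a⁆)⁻¹ = ⁅t, a⁆ := inv_eq_of_mul_eq_one_left h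
    have e : a * t = ⁅t, a⁆ * (t * a) := by rw [← hinv, commutatorElement_def]; group
    calc t * a * (t * a) = t * (a * t) * a := by group
      _ = (t * ⁅t, a⁆) * t * (a * a) := by rw [e]; group
      _ = _ := by rw [hz t]; group
  obtain ⟨x, hxA, hx2, hx4⟩ : ∃ x : T, x ∉ A ∧ x * x ≠ 1 ∧ (x * x) * (x * x) = 1 := by
    refine ⟨x₀ * d⁻¹, fun h => hx₀A ?_, fun h => hx₀A ?_, ?_⟩
    · simpa using A.mul_mem h hd
    · simpa using A.mul_mem (hA.invol _ h) hd
    · have : x₀ * d⁻¹ * (x₀ * d⁻¹) = ⁅x₀, d⁻¹⁆ := by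
        rw [hsq_shift hx₀sq (A.inv_mem hd), ← hdx, mul_assoc]; group
      rw [this]
      exact (hD hx₀sq (A.inv_mem hd)).1
  have hxsq : x * x ∈ A := hA.invol _ hx4
  have hxxc : ∀ s : T, s * (x * x) = x * x * s := D.central _ hx4
  have hnofourth : ∀ g ∈ A, (g * g) * (g * g) ≠ x * x := by
    intro g hg h
    refine hxA ?_
    have h2 : x * (g * g)⁻¹ * (x * (g * g)⁻¹) = 1 := by
      have hc : Commute x (g * g)⁻¹ := Commute.inv_right (hDsq hxsq hg)
      rw [hc.symm.mul_mul_mul_comm, ← h]; group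
    have := A.mul_mem (hA.invol _ h2) (A.mul_mem hg hg)
    rwa [inv_mul_cancel_right] at this
  have hn2 : n ≤ 2 := by
    by_contra hgt
    set u : A := a₀ ^ (2 ^ (n - 1)) with hu
    set g : A := a₀ ^ (2 ^ (n - 3)) with hg
    have hgu : ((g : T) * g) * ((g : T) * g) = u := by
      rw [← pow_two, ← pow_two, ← pow_mul, hg, hu, SubgroupClass.coe_pow, SubgroupClass.coe_pow, ← pow_mul]
      congr 1
      rw [show n - 1 = n - 3 + 2 by omega, pow_add]
      norm_num
    have hu2 : (u : T) * u = 1 := by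
      rw [← Subgroup.coe_mul, hu, ← pow_two, ← pow_mul, ← pow_succ, show n - 1 + 1 = n by omega, hexp]; rfl
    have hu1 : (u : T) ≠ 1 := fun h => ha₀ (Subtype.ext h)
    have g1 := hA.inv _ g.2
    have g2 := hA.inv _ g1
    have r1 : (D.r g * D.r g) * (D.r g * D.r g) = D.r u := by rw [← map_mul, ← map_mul, hgu]
    have r2 : (D.r (D.r g) * D.r (D.r g)) * (D.r (D.r g) * D.r (D.r g)) = D.r (D.r u) := by
      rw [← map_mul, ← map_mul, r1]
    rcases D.only _ hu2 with h | h | h | h
    · exact hu1 h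
    all_goals
      rcases D.only _ hx4 with e | e | e | e
      · exact hx2 e
      all_goals
        first
          | (refine hnofourth g g.2 ?_; simp only [hgu, h, e, D.cycle]; done)
          | (refine hnofourth _ g1 ?_; simp only [r1, h, e, D.cycle]; done)
          | (refine hnofourth _ g2 ?_; simp only [r2, h, e, D.cycle]; done)
  have hn' : n = 2 := by
    by_contra h
    have h1 : n = 1 := by omega
    subst h1
    refine hna fun a b => ?_
    have hall : ∀ t : T, t ∈ A := fun t => hcen t fun c hc => by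
      have := congrArg Subtype.val (hexp ⟨c, hc⟩)
      simp only [SubgroupClass.coe_pow, OneMemClass.coe_one, pow_one, pow_two] at this
      exact D.central c this t
    exact hA.comm a (hall a) b (hall b)
  subst hn'
  -- every square lies in `A`
  have hA4 : ∀ a ∈ A, (a * a) * (a * a) = 1 := fun a ha => by
    have := congrArg Subtype.val (hexp ⟨a, ha⟩)
    simp only [SubgroupClass.coe_pow, OneMemClass.coe_one] at this
    rw [← pow_two, ← pow_two, ← pow_mul]; exact this
  have hall : ∀ t : T, t * t ∈ A := fun t => hcen _ fun a ha => by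
    have hta : t * a * t⁻¹ ∈ A := hA.normal.conj_mem a ha t
    set w := ⁅t, a⁆ with hw
    have hwA : w ∈ A := (D.cand_of_mem hA ha).comm t
    have hconj : t * a * t⁻¹ = w * a := by rw [hw, commutatorElement_def]; group
    have hwinv : w * w = 1 := by
      have h1 : (t * a * t⁻¹) * (t * a * t⁻¹) = a * a := by
        calc (t * a * t⁻¹) * (t * a * t⁻¹) = (t * (a * a)) * t⁻¹ := by group
          _ = a * a := by rw [D.central _ (hA4 a ha) t, mul_inv_cancel_right]
      rw [hconj, (show Commute a w from hA.comm _ ha _ hwA).mul_mul_mul_comm] at h1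
      exact mul_eq_right.1 h1
    have hz := D.central w hwinv
    calc t * t * a = t * (t * a * t⁻¹) * t := by group
      _ = t * w * a * t := by rw [hconj]; group
      _ = w * (t * a * t⁻¹) * (t * t) := by rw [hz t]; group
      _ = w * w * a * (t * t) := by rw [hconj]; group
      _ = a * (t * t) := by rw [hwinv, one_mul]
  have hD' : ∀ (t : T) {a : T}, a ∈ A → ⁅t, a⁆ * ⁅t, a⁆ = 1 ∧ ⁅t, D.r a⁆ = D.r (D.r ⁅t, a⁆) :=
    fun t a ha => hD (hall t) ha
  have hcmul : ∀ (s t : T) {a : T}, a ∈ A → ⁅s * t, a⁆ = ⁅t, a⁆ * ⁅s, a⁆ := by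
    intro s t a ha
    have hz := D.central _ (hD' t ha).1
    calc ⁅s * t, a⁆ = (s * ⁅t, a⁆ * s⁻¹) * ⁅s, a⁆ := by simp only [commutatorElement_def]; group
      _ = _ := by rw [hz s, mul_inv_cancel_right]
  have hamul : ∀ (t : T) {a b : T}, a ∈ A → b ∈ A → ⁅t, a * b⁆ = ⁅t, a⁆ * ⁅t, b⁆ := by
    intro t a b ha hb
    have hz := D.central _ (hD' t hb).1
    calc ⁅t, a * b⁆ = ⁅t, a⁆ * (a * ⁅t, b⁆ * a⁻¹) := by simp only [commutatorElement_def]; group
      _ = _ := by rw [hz a, mul_inv_cancel_right]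
  -- a square root of `x * x` in `A`
  obtain ⟨e₀, he₀⟩ := hsquare ⟨x * x, hxsq⟩ (Subtype.ext (by
    show (((⟨x * x, hxsq⟩ : A) ^ (2 ^ (2 - 1)) : A) : T) = 1
    rw [SubgroupClass.coe_pow, show 2 ^ (2 - 1) = 2 from rfl, pow_two]; exact hx4))
  have he₀' : (e₀ : T) * e₀ = x * x := by
    have := congrArg Subtype.val he₀
    rwa [SubgroupClass.coe_pow, pow_two] at this
  -- the involution triangle attached to `x * x`
  have tri : ∀ {v : T}, v * v = 1 → v * D.r v * D.r (D.r v) = 1 := fun hv => D.prod_fixed hA (hA.invol _ hv)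
  have gen : ∀ (y : T), y ∉ A → ∀ {e : T}, e ∈ A → e * e = y * y → y * y ≠ 1 →
      ⁅y, e⁆ = D.r (y * y) ∨ ⁅y, e⁆ = D.r (D.r (y * y)) := by
    intro y hy e he hey hy1
    have hy2 : (y * y) * (y * y) = 1 := by rw [← hey]; exact hA4 e he
    obtain ⟨hw, hw'⟩ := hD' y he
    have hne : ⁅y, e⁆ ≠ 1 := by
      intro h
      refine hy (hspan (c := ⟨e, he⟩) ?_ (commutatorElement_eq_one_iff_mul_comm.1 h) ?_)
      · intro h2
        refine hy1 ?_
        have := congrArg Subtype.val h2
        rwa [SubgroupClass.coe_pow, show 2 ^ (2 - 1) = 2 from rfl, pow_two, hey] at this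
      · rw [h, map_one, map_one, commutatorElement_eq_one_iff_mul_comm] at hw'
        exact hw'
    have hnv : ⁅y, e⁆ ≠ y * y := by
      intro h
      refine hy ?_
      have h2 : y * D.r e * (y * D.r e) = 1 := by
        rw [hsq_shift (hall y) (hA.inv _ he), hw', h, ← map_mul, hey, mul_assoc,
          hA.comm _ (hA.inv _ (hA.inv _ (hall y))) _ (A.mul_mem (hall y) (hA.inv _ (hall y)))]
        exact tri hy2
      simpa using A.mul_mem (hA.invol _ h2) (A.inv_mem (hA.inv _ he))
    rcases D.only _ hw with h | h | h | h <;> rcases D.only _ hy2 with h' | h' | h' | h'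
    all_goals first
      | exact absurd h hne
      | exact absurd h' hy1
      | exact absurd (h.trans h'.symm) hnv
      | (left; simp only [h, h', D.cycle]; done)
      | (right; simp only [h, h', D.cycle]; done)
  obtain ⟨x, e, hxA, heA, hxe, hx1, hw⟩ : ∃ x e : T, x ∉ A ∧ e ∈ A ∧ e * e = x * x ∧ x * x ≠ 1 ∧
      ⁅x, e⁆ = D.r (x * x) := by
    rcases gen x hxA e₀.2 he₀' hx2 with h | h
    · exact ⟨x, e₀, hxA, e₀.2, he₀', hx2, h⟩
    refine ⟨x * e₀, D.r (D.r e₀), fun h' => hxA (by simpa using A.mul_mem h' (A.inv_mem e₀.2)),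
      hA.inv _ (hA.inv _ e₀.2), ?_⟩
    have hsq : x * e₀ * (x * e₀) = D.r (D.r (x * x)) := by
      rw [hsq_shift hxsq e₀.2, he₀', mul_assoc, hx4, mul_one, h]
    have hfix : ⁅(e₀ : T), D.r (D.r e₀)⁆ = 1 :=
      commutatorElement_eq_one_iff_mul_comm.2 (hA.comm _ e₀.2 _ (hA.inv _ (hA.inv _ e₀.2)))
    refine ⟨by rw [hsq, ← map_mul, ← map_mul, he₀'], ?_, ?_⟩
    · rw [hsq]; exact fun h' => hx2 (D.r.injective (D.r.injective (by rw [h', map_one, map_one])))
    · rw [hsq, hcmul x e₀ (hA.inv _ (hA.inv _ e₀.2)), hfix, one_mul, (hD' x (hA.inv _ e₀.2)).2,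
        (hD' x e₀.2).2, D.r_cube_eq hA hcen (D.r ⁅x, (e₀ : T)⁆), h]
  set v := x * x with hv
  have hv2 : v * v = 1 := by rw [← hxe]; exact hA4 e heA
  set f := D.r e with hf
  set y := D.r x with hy
  have hfA : f ∈ A := hA.inv _ heA
  have hf2 : f * f = D.r v := by rw [hf, ← map_mul, hxe]
  have hv3 : D.r (D.r (D.r v)) = v := D.r_cube_eq hA hcen v
  have hprod : D.r (D.r v) = v * D.r v := by
    have h := tri hv2
    rw [mul_eq_one_iff_inv_eq] at h
    rw [← h, mul_inv_rev, inv_eq_of_mul_eq_one_left (show D.r v * D.r v = 1 by rw [← map_mul, hv2, map_one]),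
      inv_eq_of_mul_eq_one_left hv2, D.central v hv2]
  have dxf : ⁅x, f⁆ = v := by rw [hf, (hD' x heA).2, hw, hv3]
  have dyf : ⁅y, f⁆ = v * D.r v := by rw [hy, hf, ← map_commutatorElement, hw, hprod]
  have dye : ⁅y, e⁆ = v := by
    have h1 : D.r (D.r (⁅y, e⁆)) = D.r (D.r v) := by rw [← (hD' y heA).2, dyf, hprod]
    exact D.r.injective (D.r.injective h1)
  have hcxy : x * y = y * x := by
    have h1 := D.split_one hA hcen x
    have h2 := D.split_two hA hcen x
    rw [← hy] at h1 h2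
    rw [show D.r y = (x * y)⁻¹ from (mul_eq_one_iff_inv_eq.1 h1).symm] at h2
    have h3 : y⁻¹ * x * y * x⁻¹ = 1 := by
      rw [← inv_one, ← h2]; group
    calc x * y = y * (y⁻¹ * x * y * x⁻¹) * x := by group
      _ = y * x := by rw [h3, mul_one]
  have hrel : ∀ (t a : T), t * a = ⁅t, a⁆ * a * t := fun t a => by rw [commutatorElement_def]; group
  have p2 : ∀ a : T, a ^ 2 = a * a := pow_two
  let g : T × T := (e, f)
  refine ⟨{ x := x, y := y, e := e, f := f,
            e4 := by rw [show (4 : ℕ) = 2 * 2 from rfl, pow_mul, p2, p2, hA4 e heA]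
            f4 := by rw [show (4 : ℕ) = 2 * 2 from rfl, pow_mul, p2, p2, hA4 f hfA]
            ef := hA.comm _ heA _ hfA
            xy := hcxy
            xx := by rw [p2, hxe]
            yy := by rw [p2, hf2, hy, hv, map_mul]
            xe := by
              rw [hrel, hw, p2, hf2, D.central (D.r v) (by rw [← map_mul, hv2, map_one]) e]
            xf := by rw [hrel, dxf, p2, hxe]
            ye := by rw [hrel, dye, ← hxe, pow_succ, p2]
            yf := by
              rw [hrel, dyf, pow_succ f 2, p2, p2, hxe, hf2, mul_assoc v]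
            bij := ?_ }⟩
  -- the abelian part
  obtain ⟨E, hE⟩ := D.exists_coordinates A.subtype Subtype.val_injective hn hexp ⟨e, heA⟩ ⟨f, hfA⟩
    (fun h => hx1 (by
      have := congrArg Subtype.val h
      rwa [SubgroupClass.coe_pow, show 2 ^ (2 - 1) = 2 from rfl, p2, hxe] at this)) rfl
  let Eab : ZMod 4 × ZMod 4 → T := fun p => e ^ p.1.val * f ^ p.2.val
  have hEab : ∀ p, Eab p = ((E (Multiplicative.ofAdd p) : A) : T) := fun p => by
    have h := congrArg Subtype.val (hE p.1.val p.2.val)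
    simp only [Subgroup.coe_mul, SubgroupClass.coe_pow] at h
    show e ^ p.1.val * f ^ p.2.val = _
    rw [← h]
    congr 3
    exact (Prod.ext (ZMod.natCast_zmod_val p.1) (ZMod.natCast_zmod_val p.2))
  let mark : Bool × Bool → T := fun k => (if k.1 then x else 1) * (if k.2 then y else 1)
  have hmark : ∀ k, ⁅mark k, e⁆ = (if k.1 then D.r v else 1) * (if k.2 then v else 1) := by
    rintro ⟨k, l⟩
    cases k <;> cases l
    · simp [mark]
    · simp [mark, dye]
    · simp [mark, hw]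
    · simp only [mark, if_true]
      rw [hcmul x y heA, dye, hw]
      exact (D.central v hv2 _).symm
  have hr1 : D.r v ≠ 1 := fun h => hx1 (D.r.injective (by rw [h, map_one]))
  have hrv : D.r v ≠ v := fun h => hx1 (D.involution_moved hv2 h)
  have hinjmark : Function.Injective fun k : Bool × Bool =>
      (if k.1 then D.r v else 1) * (if k.2 then v else 1) := by
    rintro ⟨k, l⟩ ⟨k', l'⟩ h
    have hne : D.r v * v ≠ 1 := fun e => hrv (mul_right_cancel (e.trans hv2.symm))
    cases k <;> cases l <;> cases k' <;> cases l' <;>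
      simp [hx1, hr1, hrv, hne, Ne.symm hx1, Ne.symm hr1, Ne.symm hrv, Ne.symm hne] at h ⊢
  have hAcomm : ∀ (p : ZMod 4 × ZMod 4), Eab p ∈ A := fun p => by rw [hEab]; exact SetLike.coe_mem _
  have hkey : ∀ (p : ZMod 4 × ZMod 4) (k : Bool × Bool), ⁅Eab p * mark k, e⁆ = ⁅mark k, e⁆ := fun p k => by
    rw [hcmul _ _ heA, commutatorElement_eq_one_iff_mul_comm.2 (hA.comm _ (hAcomm p) _ heA), mul_one]
  refine ⟨?_, fun t => ?_⟩
  · rintro ⟨p, k⟩ ⟨q, l⟩ h
    have h' : Eab p * mark k = Eab q * mark l := h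
    have hkl : k = l := by
      refine hinjmark ?_
      dsimp only
      rw [← hmark, ← hmark, ← hkey p k, h', hkey]
    subst hkl
    have := mul_right_cancel h'
    rw [hEab, hEab] at this
    exact Prod.ext (Multiplicative.ofAdd.injective (E.injective (Subtype.ext this))) rfl
  · have hsurj : ∃ k, ⁅mark k, e⁆ = ⁅t, e⁆ := by
      rcases D.only _ (hD' t heA).1 with h | h | h | h <;>
        rcases D.only _ hv2 with h' | h' | h' | h'
      all_goals first
        | exact absurd h' hx1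
        | (refine ⟨(false, false), ?_⟩; simp [hmark, h]; done)
        | (refine ⟨(true, false), ?_⟩; simp [hmark, h, h', D.cycle]; done)
        | (refine ⟨(false, true), ?_⟩; simp [hmark, h, h', D.cycle]; done)
        | (refine ⟨(true, true), ?_⟩; rw [hmark, h]; simp only [if_true]
           rw [D.central v hv2 (D.r v), ← hprod, h']; all_goals (simp only [D.cycle]); done)
    obtain ⟨k, hk⟩ := hsurj
    have hmem : t * (mark k)⁻¹ ∈ A := by
      have hd1 : ⁅t * (mark k)⁻¹, e⁆ = 1 := by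
        have h1 := hcmul (t * (mark k)⁻¹) (mark k) heA
        rw [inv_mul_cancel_right, hk] at h1
        exact mul_eq_left.1 h1.symm
      refine hspan (c := ⟨e, heA⟩) ?_ (commutatorElement_eq_one_iff_mul_comm.1 hd1) ?_
      · intro h
        have := congrArg Subtype.val h
        rw [SubgroupClass.coe_pow, show 2 ^ (2 - 1) = 2 from rfl, p2, hxe] at this
        exact hx1 this
      · have := (hD' (t * (mark k)⁻¹) heA).2
        rw [hd1, map_one, map_one, commutatorElement_eq_one_iff_mul_comm] at this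
        exact this
    obtain ⟨p, hp⟩ := E.surjective ⟨_, hmem⟩
    refine ⟨(Multiplicative.toAdd p, k), ?_⟩
    show Eab _ * mark k = t
    rw [hEab, ofAdd_toAdd, hp]
    exact inv_mul_cancel_right t (mark k)

end Data

/-- The non-abelian case. -/
theorem Data.nonabelian {T : Type*} [Group T] [Finite T] (D : Data T)
    (hna : ¬ ∀ a b : T, a * b = b * a) : Nonempty (Gens T) := by
  obtain ⟨A, hA, hmax⟩ := D.exists_max
  exact D.exists_gens hA (fun t ht => D.centralizer_eq hA hmax ht) hna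

end Cfsg.Agent.RankTwoInvol
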