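import Mathlib
import Cfsg.Agent.InvChar.FixedPointFreeOrderSixtyFour
import Cfsg.Agent.Lib.RankTwoInvol.Nonabelian
import Cfsg.Agent.S3779

/-!
A 2-group with a central four-group `V`, an involutory automorphism whose fixed-point group is `V`
and a commuting automorphism of order three moving the elements of `V`.
-/

set_option autoImplicit false
set_option linter.all false

namespace Cfsg.Agent.RankTwoInvol.FoursCenter

open scoped commutatorElement
open Cfsg.Agent.InvChar.FixedPointFreeOrderSixtyFour (k map_k k_self)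

/-- The standing hypotheses. -/
structure Setup (T : Type*) [Group T] where
  ρ : MulAut T
  τ : MulAut T
  V : Subgroup T
  isP : IsPGroup 2 T
  h3 : ρ ^ 3 = 1
  comm : ∀ x : T, τ (ρ x) = ρ (τ x)
  invol : ∀ x : T, τ (τ x) = x
  fix : ∀ x : T, τ x = x ↔ x ∈ V
  central : V ≤ Subgroup.center T
  cardV : Nat.card V = 4
  expV : ∀ v ∈ V, v * v = 1
  invV : ∀ v ∈ V, ρ v ∈ V
  moved : ∀ v ∈ V, ρ v = v → v = 1

namespace Setup

variable {T : Type*} [Group T] [Finite T] (S : Setup T)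

include S

omit [Finite T] in
theorem period (x : T) : S.ρ (S.ρ (S.ρ x)) = x :=
  InvChar.FixedPointFreeOrderSixtyFour.period S.ρ S.h3 x

/-- No fixed points of the involution in `K / N` means `K = N`. -/
theorem le_of_no_fixed (K N : Subgroup T) (hK : ∀ x ∈ K, S.τ x ∈ K) (hN : ∀ x ∈ N, S.τ x ∈ N)
    (hfix : ∀ x ∈ K, x⁻¹ * S.τ x ∈ N → x ∈ N) : K ≤ N := by
  classical
  haveI : Fact (Nat.Prime 2) := ⟨Nat.prime_two⟩
  set N' := N.subgroupOf K with hN'
  haveI : Fintype (K ⧸ N') := Fintype.ofFinite _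
  let g : K ⧸ N' → K ⧸ N' := Quotient.map' (fun x : K => (⟨S.τ x, hK x x.2⟩ : K)) (by
    intro a b h
    rw [QuotientGroup.leftRel_apply, hN', Subgroup.mem_subgroupOf] at h ⊢
    simpa using hN _ h)
  have hg : ∀ q, g (g q) = q := by
    intro q
    induction q using Quotient.inductionOn' with
    | h x => exact congrArg Quotient.mk'' (Subtype.ext (S.invol x))
  let π : Equiv.Perm (K ⧸ N') := Function.Involutive.toPerm g hg
  have hπ : π ^ (2 ^ 1) = 1 := by
    rw [pow_one, pow_two]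
    exact Equiv.ext hg
  have hs := Equiv.Perm.card_compl_support_modEq (p := 2) (n := 1) (σ := π) hπ
  have h1 : π.supportᶜ = {((1 : K) : K ⧸ N')} := by
    ext q
    induction q using Quotient.inductionOn' with
    | h x =>
      simp only [Finset.mem_compl, Equiv.Perm.mem_support, not_not, Finset.mem_singleton]
      constructor
      · intro h
        have h' : ((⟨S.τ x, hK x x.2⟩ : K) : K ⧸ N') = (x : K ⧸ N') := h
        have h2 := QuotientGroup.eq.1 h'.symm
        rw [hN', Subgroup.mem_subgroupOf] at h2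
        refine QuotientGroup.eq.2 ?_
        rw [hN', Subgroup.mem_subgroupOf, mul_one]
        exact N.inv_mem (hfix x x.2 (by simpa using h2))
      · intro h
        have h' : (x : K ⧸ N') = ((1 : K) : K ⧸ N') := h
        have h2 := QuotientGroup.eq.1 h'
        rw [hN', Subgroup.mem_subgroupOf, mul_one] at h2
        have h3 : (x : T) ∈ N := by simpa using N.inv_mem h2
        show ((⟨S.τ x, hK x x.2⟩ : K) : K ⧸ N') = (x : K ⧸ N')
        refine QuotientGroup.eq.2 ?_
        rw [hN', Subgroup.mem_subgroupOf]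
        exact N.mul_mem (N.inv_mem (hN _ h3)) h3
  rw [h1, Finset.card_singleton, ← Nat.card_eq_fintype_card] at hs
  obtain ⟨m, hm⟩ := (S.isP.to_subgroup K).index N'
  rw [← Subgroup.index_eq_card, hm] at hs
  have hm0 : m = 0 := by
    by_contra hm0
    obtain ⟨j, rfl⟩ := Nat.exists_eq_succ_of_ne_zero hm0
    rw [Nat.ModEq, pow_succ', Nat.mul_mod_right] at hs
    norm_num at hs
  rw [hm0, pow_zero, Subgroup.index_eq_one, hN', Subgroup.subgroupOf_eq_top] at hm
  exact hm

/-- The automorphism of order three fixes only the identity. -/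
theorem fpf (x : T) (hx : S.ρ x = x) : x = 1 := by
  let K : Subgroup T :=
    { carrier := {y | S.ρ y = y}
      one_mem' := map_one _
      mul_mem' := fun {a b} ha hb => by
        show S.ρ (a * b) = a * b
        rw [map_mul, show S.ρ a = a from ha, show S.ρ b = b from hb]
      inv_mem' := fun {a} ha => by
        show S.ρ a⁻¹ = a⁻¹
        rw [map_inv, show S.ρ a = a from ha] }
  have h := S.le_of_no_fixed K ⊥
    (fun y hy => by
      show S.ρ (S.τ y) = S.τ y
      rw [← S.comm, show S.ρ y = y from hy])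
    (fun y hy => by rw [Subgroup.mem_bot.1 hy, map_one]; exact one_mem _)
    (fun y hy h => by
      rw [Subgroup.mem_bot] at h ⊢
      exact S.moved y ((S.fix y).1 (inv_mul_eq_one.1 h).symm) hy)
  exact Subgroup.mem_bot.1 (h (show x ∈ K from hx))

theorem orderOf_ρ : orderOf S.ρ = 3 := by
  haveI : Fact (Nat.Prime 3) := ⟨Nat.prime_three⟩
  refine orderOf_eq_prime S.h3 fun h => ?_
  have h4 := S.cardV
  haveI : Subsingleton S.V := ⟨fun a b => by
    have := S.moved a a.2 (by rw [h]; rfl)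
    have := S.moved b b.2 (by rw [h]; rfl)
    exact Subtype.ext (by rw [‹(a : T) = 1›, ‹(b : T) = 1›])⟩
  rw [Nat.card_of_subsingleton (1 : S.V)] at h4
  omega

theorem kcen (a b : T) : k a b ∈ Subgroup.center T := by
  have h := (Cfsg.Agent.S3779.result Nat.prime_three S.ρ S.orderOf_ρ S.fpf).2.1 rfl
  rw [Subgroup.mem_center_iff]
  intro g
  have h2 : ⁅k a b, g⁆ ∈ (⊤ : Subgroup T).lowerCentralSeries 2 := by
    show _ ∈ ⁅⁅(⊤ : Subgroup T), ⊤⁆, ⊤⁆
    refine Subgroup.commutator_mem_commutator ?_ (Subgroup.mem_top _)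
    have : ⁅a, b⁆ ∈ ⁅(⊤ : Subgroup T), ⊤⁆ := Subgroup.commutator_mem_commutator (Subgroup.mem_top _) (Subgroup.mem_top _)
    rwa [commutatorElement_def] at this
  rw [h, Subgroup.mem_bot, commutatorElement_eq_one_iff_mul_comm] at h2
  exact h2.symm

theorem kc (a b g : T) : g * k a b = k a b * g := Subgroup.mem_center_iff.1 (S.kcen a b) g

theorem k_mul_left (a b c : T) : k (a * b) c = k a c * k b c := by
  calc k (a * b) c = a * k b c * (c * a⁻¹ * c⁻¹) := by simp [k, mul_assoc]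
    _ = k b c * a * (c * a⁻¹ * c⁻¹) := by rw [S.kc]
    _ = k b c * k a c := by simp [k, mul_assoc]
    _ = _ := by rw [S.kc]

omit S [Finite T] in
theorem k_swap (a b : T) : k b a = (k a b)⁻¹ := by simp [k, mul_assoc]

theorem k_mul_right (a b c : T) : k a (b * c) = k a b * k a c := by
  rw [k_swap (b * c) a, S.k_mul_left, mul_inv_rev, ← k_swap b a, ← k_swap c a, S.kc]

theorem k_one_right (a : T) : k a 1 = 1 := by simp [k]

theorem k_one_left (a : T) : k 1 a = 1 := by simp [k]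

theorem k_inv_right (a b : T) : k a b⁻¹ = (k a b)⁻¹ := by
  refine eq_inv_of_mul_eq_one_left ?_
  rw [← S.k_mul_right, inv_mul_cancel, S.k_one_right]

theorem k_mem_V_right (a : T) {v : T} (hv : v ∈ S.V) : k a v = 1 := by
  show a * v * a⁻¹ * v⁻¹ = 1
  rw [Subgroup.mem_center_iff.1 (S.central hv) a, mul_inv_cancel_right, mul_inv_cancel]

theorem k_mem_V_left (a : T) {v : T} (hv : v ∈ S.V) : k v a = 1 := by
  rw [k_swap, S.k_mem_V_right a hv, inv_one]

theorem triple (x : T) : x * S.ρ x * S.ρ (S.ρ x) = 1 :=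
  InvChar.FixedPointFreeOrderSixtyFour.triple S.ρ S.h3 S.fpf x

theorem commute_rho (x : T) : x * S.ρ x = S.ρ x * x :=
  InvChar.FixedPointFreeOrderSixtyFour.commute_rho S.ρ S.h3 S.fpf x

theorem k_rho (a b : T) : k a (S.ρ b) = S.ρ (S.ρ (k a b)) ∧ k (S.ρ a) b = S.ρ (S.ρ (k a b)) := by
  set z := k a b with hz
  set c := k a (S.ρ b) with hc
  have hself : ∀ y, k y (S.ρ y) = 1 := fun y => by
    show y * S.ρ y * y⁻¹ * (S.ρ y)⁻¹ = 1
    rw [S.commute_rho]; group
  have h1 : c * k b (S.ρ a) = 1 := by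
    have h := hself (a * b)
    rwa [map_mul, S.k_mul_left, S.k_mul_right, S.k_mul_right, hself, hself, one_mul, mul_one] at h
  have h2 : k (S.ρ a) b = c := by rw [k_swap, inv_eq_of_mul_eq_one_left h1]
  have h3 : S.ρ c = (c * S.ρ z)⁻¹ := by
    rw [hc, map_k, show S.ρ (S.ρ b) = (b * S.ρ b)⁻¹ from eq_inv_of_mul_eq_one_right (S.triple b),
      S.k_inv_right, S.k_mul_right, h2, ← map_k, hc]
  have h4 : S.ρ z = S.ρ (S.ρ c) := by
    have e1 : S.ρ c * (c * S.ρ z) = 1 := by rw [h3, inv_mul_cancel]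
    have e2 : c * S.ρ c * S.ρ (S.ρ c) = 1 := S.triple c
    rw [← mul_assoc, ← S.commute_rho c] at e1
    exact mul_left_cancel (e1.trans e2.symm)
  have h5 : c = S.ρ (S.ρ z) := by
    rw [S.ρ.injective h4, S.period]
  exact ⟨h5, h2.trans h5⟩

theorem fixed_mem {x y : T} (hc : x * y = y * x) (hxy : S.τ x = y) : x * y ∈ S.V := by
  rw [← S.fix, map_mul, hxy, ← hxy, S.invol, hxy, hc]

theorem cases_V {c : T} (hc : c ∈ S.V) (hc1 : c ≠ 1) {w : T} (hw : w ∈ S.V) :
    w = 1 ∨ w = c ∨ w = S.ρ c ∨ w = S.ρ (S.ρ c) := by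
  classical
  haveI : Fintype S.V := Fintype.ofFinite _
  have hr : S.ρ c ∈ S.V := S.invV c hc
  have hrr : S.ρ (S.ρ c) ∈ S.V := S.invV _ hr
  have m1 : S.ρ c ≠ c := fun h => hc1 (S.fpf c h)
  have r1 : S.ρ c ≠ 1 := fun h => hc1 (S.ρ.injective (h.trans (map_one _).symm))
  have rr1 : S.ρ (S.ρ c) ≠ 1 := fun h => r1 (S.ρ.injective (h.trans (map_one _).symm))
  have m2 : S.ρ (S.ρ c) ≠ S.ρ c := fun h => m1 (S.ρ.injective h)
  have m3 : S.ρ (S.ρ c) ≠ c := fun h => m1 (by
    have h' := congrArg S.ρ h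
    rw [S.period] at h'
    exact h'.symm)
  have hu : ({(1 : S.V), ⟨c, hc⟩, ⟨S.ρ c, hr⟩, ⟨S.ρ (S.ρ c), hrr⟩} : Finset S.V) = Finset.univ := by
    refine Finset.eq_univ_of_card _ ?_
    rw [← Nat.card_eq_fintype_card, S.cardV, Finset.card_insert_of_notMem,
      Finset.card_insert_of_notMem, Finset.card_pair]
    · exact fun h => m2 (congrArg Subtype.val h).symm
    · simp only [Finset.mem_insert, Finset.mem_singleton, Subtype.ext_iff]
      push Not
      exact ⟨m1.symm, m3.symm⟩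
    · simp only [Finset.mem_insert, Finset.mem_singleton, Subtype.ext_iff]
      push Not
      exact ⟨Ne.symm hc1, Ne.symm r1, Ne.symm rr1⟩
  have hm := Finset.mem_univ (⟨w, hw⟩ : S.V)
  rw [← hu] at hm
  simpa [Subtype.ext_iff] using hm

theorem shape {d : T} (hd : d⁻¹ * S.τ d ∈ S.V) (hd1 : d ∉ S.V) {x : T} (hx : x⁻¹ * S.τ x ∈ S.V) :
    ∃ p w : T, w ∈ S.V ∧ x = p * w ∧ (p = 1 ∨ p = d ∨ p = S.ρ d ∨ p = S.ρ (S.ρ d)) := by
  set c := d⁻¹ * S.τ d with hc
  have hc1 : c ≠ 1 := fun h => hd1 ((S.fix d).1 (inv_mul_eq_one.1 h).symm)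
  have key : ∀ p : T, p⁻¹ * S.τ p = x⁻¹ * S.τ x → ∃ w, w ∈ S.V ∧ x = p * w := by
    intro p hp
    have hf : S.τ (x * p⁻¹) = x * p⁻¹ := by
      rw [map_mul, map_inv, show S.τ x = x * (x⁻¹ * S.τ x) by group,
        show S.τ p = p * (p⁻¹ * S.τ p) by group, hp]
      group
    have hw := (S.fix _).1 hf
    refine ⟨x * p⁻¹, hw, ?_⟩
    rw [Subgroup.mem_center_iff.1 (S.central hw) p, inv_mul_cancel_right]
  rcases S.cases_V hd hc1 hx with h | h | h | h
  · obtain ⟨w, hw, e⟩ := key 1 (by rw [h]; simp)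
    exact ⟨1, w, hw, e, Or.inl rfl⟩
  · obtain ⟨w, hw, e⟩ := key d h.symm
    exact ⟨d, w, hw, e, Or.inr (Or.inl rfl)⟩
  · obtain ⟨w, hw, e⟩ := key (S.ρ d) (by rw [h, hc, map_mul, map_inv, ← S.comm])
    exact ⟨_, w, hw, e, Or.inr (Or.inr (Or.inl rfl))⟩
  · obtain ⟨w, hw, e⟩ := key (S.ρ (S.ρ d)) (by
      rw [h, hc, map_mul, map_inv, map_mul, map_inv, ← S.comm, ← S.comm])
    exact ⟨_, w, hw, e, Or.inr (Or.inr (Or.inr rfl))⟩

/-- An involution not commuting with its conjugate forces order `64`. -/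
theorem card_sixty_four {a : T} (ha : a * a = 1) (hna : k a (S.τ a) ≠ 1) : Nat.card T = 64 := by
  classical
  set b := S.τ a with hb
  have hb2 : b * b = 1 := by rw [hb, ← map_mul, ha, map_one]
  set c := k a b with hc
  have hcsq : c * c = 1 := by rw [hc, ← S.k_mul_left, ha, S.k_one_left]
  have hcV : c ∈ S.V := by
    rw [← S.fix, hc, map_k, ← hb, show S.τ b = a from S.invol a, k_swap a b, inv_eq_iff_mul_eq_one]
    exact hcsq
  have hba : k b a = c := by
    rw [k_swap a b, inv_eq_iff_mul_eq_one]; exact hcsq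
  set d := a * b with hd
  have hdτ : d⁻¹ * S.τ d = c := by
    rw [← hba, hd, map_mul, ← hb, show S.τ b = a from S.invol a, mul_inv_rev]
    simp [k, mul_assoc, inv_eq_of_mul_eq_one_right ha, inv_eq_of_mul_eq_one_right hb2]
  have hdV : d⁻¹ * S.τ d ∈ S.V := hdτ ▸ hcV
  have hda : k d a = c := by rw [hd, S.k_mul_left, k_self, one_mul, hba]
  have hd1 : d ∉ S.V := fun h => hna (hda.symm.trans (S.k_mem_V_left a h))
  have hrc : S.ρ c ≠ 1 := fun h => hna (S.ρ.injective (h.trans (map_one _).symm))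
  have hrrc : S.ρ (S.ρ c) ≠ 1 := fun h => hrc (S.ρ.injective (h.trans (map_one _).symm))
  have hshape : ∀ x, x⁻¹ * S.τ x ∈ S.V → k x a = 1 → x ∈ S.V := by
    intro x hx hxa
    obtain ⟨p, w, hw, rfl, hp⟩ := S.shape hdV hd1 hx
    rw [S.k_mul_left, S.k_mem_V_left a hw, mul_one] at hxa
    rcases hp with rfl | rfl | rfl | rfl
    · rwa [one_mul]
    · exact absurd (hda.symm.trans hxa) hna
    · rw [(S.k_rho _ _).2, hda] at hxa
      exact absurd hxa hrrc
    · rw [(S.k_rho _ _).2, (S.k_rho _ _).2, hda, S.period] at hxa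
      exact absurd hxa hrc
  have hZ : ∀ z ∈ Subgroup.center T, z * z = 1 → z ∈ S.V := by
    intro z hz hzz
    refine hshape z ?_ (by
      show z * a * z⁻¹ * a⁻¹ = 1
      rw [← Subgroup.mem_center_iff.1 hz a, mul_inv_cancel_right, mul_inv_cancel])
    rw [inv_eq_of_mul_eq_one_right hzz]
    exact S.fixed_mem ((Subgroup.mem_center_iff.1 hz _).symm) rfl
  have hka : ∀ x, k x a ∈ S.V := fun x => hZ _ (S.kcen x a) (by
    rw [← S.k_mul_right, ha, S.k_one_right])
  have hkb : ∀ x, k x b ∈ S.V := fun x => hZ _ (S.kcen x b) (by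
    rw [← S.k_mul_right, hb2, S.k_one_right])
  let Φ : T →* S.V × S.V := MonoidHom.mk' (fun x => (⟨k x a, hka x⟩, ⟨k x b, hkb x⟩)) (fun x y =>
    Prod.ext (Subtype.ext (S.k_mul_left x y a)) (Subtype.ext (S.k_mul_left x y b)))
  have hker : Φ.ker = S.V := by
    apply le_antisymm
    · refine S.le_of_no_fixed _ _ (fun x hx => ?_) (fun x hx => by rwa [(S.fix x).2 hx]) ?_
      · have hx' : (⟨k x a, hka x⟩, ⟨k x b, hkb x⟩) = (1 : S.V × S.V) := hx
        obtain ⟨h1, h2⟩ := Prod.mk.inj hx'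
        have h1' : k x a = 1 := congrArg Subtype.val h1
        have h2' : k x b = 1 := congrArg Subtype.val h2
        refine Prod.ext (Subtype.ext ?_) (Subtype.ext ?_)
        · show k (S.τ x) a = 1
          rw [show a = S.τ b from (S.invol a).symm, ← map_k, h2', map_one]
        · show k (S.τ x) b = 1
          rw [hb, ← map_k, h1', map_one]
      · intro x hx hxV
        exact hshape x hxV (congrArg (fun q : S.V × S.V => ((q.1 : S.V) : T)) hx)
    · intro v hv
      exact Prod.ext (Subtype.ext (S.k_mem_V_left a hv)) (Subtype.ext (S.k_mem_V_left b hv))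
  have hsurj : Function.Surjective Φ := by
    have e1 : ∀ u : S.V, ∃ x, Φ x = (u, 1) := by
      rintro ⟨u, hu⟩
      have hbb : k b b = 1 := k_self b
      rcases S.cases_V hcV hna hu with rfl | rfl | rfl | rfl
      · exact ⟨1, map_one _⟩
      · exact ⟨b, Prod.ext (Subtype.ext hba) (Subtype.ext hbb)⟩
      · refine ⟨S.ρ (S.ρ b), Prod.ext (Subtype.ext ?_) (Subtype.ext ?_)⟩
        · show k (S.ρ (S.ρ b)) a = S.ρ c
          rw [(S.k_rho _ _).2, (S.k_rho _ _).2, hba, S.period]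
        · show k (S.ρ (S.ρ b)) b = 1
          rw [(S.k_rho _ _).2, (S.k_rho _ _).2, hbb, map_one, map_one, map_one, map_one]
      · refine ⟨S.ρ b, Prod.ext (Subtype.ext ?_) (Subtype.ext ?_)⟩
        · show k (S.ρ b) a = S.ρ (S.ρ c)
          rw [(S.k_rho _ _).2, hba]
        · show k (S.ρ b) b = 1
          rw [(S.k_rho _ _).2, hbb, map_one, map_one]
    have e2 : ∀ u : S.V, ∃ x, Φ x = (1, u) := by
      rintro ⟨u, hu⟩
      have haa : k a a = 1 := k_self a
      rcases S.cases_V hcV hna hu with rfl | rfl | rfl | rfl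
      · exact ⟨1, map_one _⟩
      · exact ⟨a, Prod.ext (Subtype.ext haa) (Subtype.ext hc.symm)⟩
      · refine ⟨S.ρ (S.ρ a), Prod.ext (Subtype.ext ?_) (Subtype.ext ?_)⟩
        · show k (S.ρ (S.ρ a)) a = 1
          rw [(S.k_rho _ _).2, (S.k_rho _ _).2, haa, map_one, map_one, map_one, map_one]
        · show k (S.ρ (S.ρ a)) b = S.ρ c
          rw [(S.k_rho _ _).2, (S.k_rho _ _).2, ← hc, S.period]
      · refine ⟨S.ρ a, Prod.ext (Subtype.ext ?_) (Subtype.ext ?_)⟩
        · show k (S.ρ a) a = 1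
          rw [(S.k_rho _ _).2, haa, map_one, map_one]
        · show k (S.ρ a) b = S.ρ (S.ρ c)
          rw [(S.k_rho _ _).2, ← hc]
    rintro ⟨u, w⟩
    obtain ⟨x, hx⟩ := e1 u
    obtain ⟨y, hy⟩ := e2 w
    exact ⟨x * y, by rw [map_mul, hx, hy]; simp⟩
  have h := Φ.ker.card_mul_index
  rw [Subgroup.index_ker, MonoidHom.range_eq_top.2 hsurj, Subgroup.card_top, Nat.card_prod, hker,
    S.cardV] at h
  omega

/-- Otherwise an involution outside `V` forces an elementary abelian group of order `16`. -/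
theorem elementary (hall : ∀ x : T, x * x = 1 → k x (S.τ x) = 1) {a : T} (ha : a * a = 1)
    (haV : a ∉ S.V) : Nat.card T = 16 ∧ ∀ x : T, x * x = 1 := by
  classical
  have hinF : ∀ x : T, x * x = 1 → x⁻¹ * S.τ x ∈ S.V := by
    intro x hx
    rw [inv_eq_of_mul_eq_one_right hx]
    refine S.fixed_mem ?_ rfl
    have h := InvChar.FixedPointFreeOrderSixtyFour.swap x (S.τ x)
    rwa [hall x hx, one_mul] at h
  let F : Subgroup T :=
    { carrier := {x | x⁻¹ * S.τ x ∈ S.V}
      one_mem' := by simp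
      mul_mem' := fun {x y} hx hy => by
        show (x * y)⁻¹ * S.τ (x * y) ∈ S.V
        have e : (x * y)⁻¹ * S.τ (x * y) = (x⁻¹ * S.τ x) * (y⁻¹ * S.τ y) := by
          calc (x * y)⁻¹ * S.τ (x * y) = y⁻¹ * (x⁻¹ * S.τ x) * S.τ y := by rw [map_mul]; group
            _ = (x⁻¹ * S.τ x) * y⁻¹ * S.τ y := by rw [Subgroup.mem_center_iff.1 (S.central hx) y⁻¹]
            _ = _ := mul_assoc _ _ _
        rw [e]
        exact S.V.mul_mem hx hy
      inv_mem' := fun {x} hx => by
        show x⁻¹⁻¹ * S.τ x⁻¹ ∈ S.V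
        have e : x⁻¹⁻¹ * S.τ x⁻¹ = (x⁻¹ * S.τ x)⁻¹ := by
          have h : (x⁻¹ * S.τ x)⁻¹ = x * (x⁻¹ * S.τ x)⁻¹ * x⁻¹ := by
            rw [Subgroup.mem_center_iff.1 (S.central (S.V.inv_mem hx)) x, mul_inv_cancel_right]
          rw [h, map_inv]; group
        rw [e]
        exact S.V.inv_mem hx }
  have haF := hinF a ha
  have hsq : ∀ x ∈ F, x * x = 1 := by
    intro x hx
    obtain ⟨p, w, hw, rfl, hp⟩ := S.shape haF haV hx
    have hp2 : p * p = 1 := by
      rcases hp with rfl | hp | rfl | rfl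
      · simp
      · rw [hp]; exact ha
      · rw [← map_mul, ha, map_one]
      · rw [← map_mul, ← map_mul, ha, map_one, map_one]
    calc p * w * (p * w) = p * (w * p) * w := by group
      _ = p * (p * w) * w := by rw [Subgroup.mem_center_iff.1 (S.central hw) p]
      _ = (p * p) * (w * w) := by group
      _ = 1 := by rw [hp2, S.expV w hw, one_mul]
  have hτF : ∀ x ∈ F, S.τ x ∈ F := fun x hx => hinF _ (by rw [← map_mul, hsq x hx, map_one])
  have hVF : S.V ≤ F := fun v hv => by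
    show v⁻¹ * S.τ v ∈ S.V
    rw [(S.fix v).2 hv, inv_mul_cancel]
    exact one_mem _
  have hfixF : ∀ x : T, x⁻¹ * S.τ x ∈ F → x ∈ F := by
    intro x hx
    have h1 := hsq _ hx
    have h2 : S.τ (x⁻¹ * S.τ x) = x⁻¹ * S.τ x := by
      calc S.τ (x⁻¹ * S.τ x) = (x⁻¹ * S.τ x)⁻¹ := by rw [map_mul, map_inv, S.invol, mul_inv_rev, inv_inv]
        _ = _ := inv_eq_of_mul_eq_one_right h1
    exact (S.fix _).1 h2
  let C : Subgroup T :=
    { carrier := {x | k x a = 1}
      one_mem' := S.k_one_left a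
      mul_mem' := fun {x y} hx hy => by
        show k (x * y) a = 1
        rw [S.k_mul_left, show k x a = 1 from hx, show k y a = 1 from hy, one_mul]
      inv_mem' := fun {x} hx => by
        show k x⁻¹ a = 1
        rw [k_swap, S.k_inv_right, inv_inv, k_swap, show k x a = 1 from hx, inv_one] }
  have hCF : C ≤ F := by
    refine S.le_of_no_fixed C F (fun x hx => ?_) hτF (fun x _ h => hfixF x h)
    have e : S.τ a = a * (a⁻¹ * S.τ a) := by group
    show k (S.τ x) a = 1
    have h : k x (S.τ a) = 1 := by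
      rw [e, S.k_mul_right, show k x a = 1 from hx, S.k_mem_V_right x haF, one_mul]
    rw [show a = S.τ (S.τ a) from (S.invol a).symm, ← map_k, h, map_one]
  have hsqV : ∀ x : T, x * x ∈ S.V := by
    intro x
    have hk2 : k x a * k x a = 1 := by rw [← S.k_mul_right, ha, S.k_one_right]
    have hxxC : x * x ∈ C := by
      show k (x * x) a = 1
      rw [S.k_mul_left, hk2]
    obtain ⟨p, w, hw, hxw, hp⟩ := S.shape haF haV (hCF hxxC)
    by_contra hxV
    have hkxp : k x p = 1 := by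
      have h : k x (x * x) = 1 := by rw [S.k_mul_right, k_self, one_mul]
      rwa [hxw, S.k_mul_right, S.k_mem_V_right x hw, mul_one] at h
    have hxa : k x a = 1 := by
      rcases hp with rfl | hp | rfl | rfl
      · rw [hxw, one_mul] at hxV
        exact absurd hw hxV
      · rwa [hp] at hkxp
      · rw [(S.k_rho x a).1] at hkxp
        exact S.ρ.injective (S.ρ.injective (hkxp.trans (by simp)))
      · rw [(S.k_rho x _).1, (S.k_rho x a).1, S.period] at hkxp
        exact S.ρ.injective (hkxp.trans (map_one _).symm)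
    exact hxV (by rw [hsq x (hCF hxa)]; exact one_mem _)
  have hall' : ∀ x : T, x ∈ F := by
    intro x
    refine hfixF x ?_
    set u := x⁻¹ * S.τ x with hu
    show u⁻¹ * S.τ u ∈ S.V
    have e : S.τ u = u⁻¹ := by rw [hu, map_mul, map_inv, S.invol, mul_inv_rev, inv_inv]
    rw [e, ← mul_inv_rev]
    exact S.V.inv_mem (hsqV u)
  refine ⟨?_, fun x => hsq x (hall' x)⟩
  let δ : T →* S.V := MonoidHom.mk' (fun x => ⟨x⁻¹ * S.τ x, hall' x⟩) (fun x y => Subtype.ext (by
    show (x * y)⁻¹ * S.τ (x * y) = x⁻¹ * S.τ x * (y⁻¹ * S.τ y)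
    calc (x * y)⁻¹ * S.τ (x * y) = y⁻¹ * (x⁻¹ * S.τ x) * S.τ y := by rw [map_mul]; group
      _ = (x⁻¹ * S.τ x) * y⁻¹ * S.τ y := by rw [Subgroup.mem_center_iff.1 (S.central (hall' x)) y⁻¹]
      _ = _ := mul_assoc _ _ _))
  have hker : δ.ker = S.V := by
    ext x
    rw [MonoidHom.mem_ker, ← S.fix, Subtype.ext_iff]
    show x⁻¹ * S.τ x = 1 ↔ _
    rw [inv_mul_eq_one]
    exact eq_comm
  have hsurj : Function.Surjective δ := by
    rintro ⟨u, hu⟩
    have hc1 : a⁻¹ * S.τ a ≠ 1 := fun h => haV ((S.fix a).1 (inv_mul_eq_one.1 h).symm)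
    rcases S.cases_V haF hc1 hu with rfl | rfl | rfl | rfl
    · exact ⟨1, map_one _⟩
    · exact ⟨a, rfl⟩
    · refine ⟨S.ρ a, Subtype.ext ?_⟩
      show (S.ρ a)⁻¹ * S.τ (S.ρ a) = S.ρ (a⁻¹ * S.τ a)
      rw [map_mul, map_inv, S.comm]
    · refine ⟨S.ρ (S.ρ a), Subtype.ext ?_⟩
      show (S.ρ (S.ρ a))⁻¹ * S.τ (S.ρ (S.ρ a)) = S.ρ (S.ρ (a⁻¹ * S.τ a))
      rw [map_mul, map_mul, map_inv, map_inv, S.comm, S.comm]
  have h := δ.ker.card_mul_index
  rw [Subgroup.index_ker, MonoidHom.range_eq_top.2 hsurj, Subgroup.card_top, hker, S.cardV] at h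
  omega

/-- All involutions in `V`: the three-involution situation. -/
theorem exists_data (h : ∀ x : T, x * x = 1 → x ∈ S.V) : Nonempty (Data T) := by
  classical
  haveI : Nontrivial S.V := Finite.one_lt_card_iff_nontrivial.1 (by rw [S.cardV]; norm_num)
  obtain ⟨⟨v, hv⟩, hv1⟩ := exists_ne (1 : S.V)
  have hv1' : v ≠ 1 := fun h => hv1 (Subtype.ext h)
  exact ⟨{ r := S.ρ
           v := v
           isP := S.isP
           finite_order := ⟨1, by rw [pow_one]; exact S.h3⟩
           v_sq := S.expV v hv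
           v_ne := hv1'
           moved := fun hm => hv1' (S.fpf v hm)
           cycle := S.period v
           only := fun t ht => S.cases_V hv hv1' (h t ht)
           central := fun t ht s => Subgroup.mem_center_iff.1 (S.central (h t ht)) s }⟩

/-- The classification. -/
theorem classify :
    (Nat.card T = 16 ∧ ∀ x : T, x * x = 1) ∨
      (∃ n : ℕ, 1 ≤ n ∧ Nonempty (T ≃* Multiplicative (ZMod (2 ^ n)) × Multiplicative (ZMod (2 ^ n)))) ∨
      (∃ a b : T, a * a = 1 ∧ b * b = 1 ∧ k a b ≠ 1 ∧ Nat.card T = 64 ∧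
        InvChar.FixedPointFreeOrderSixtyFour.Data T S.ρ) ∨
      Nonempty (Gens T) := by
  classical
  by_cases hV : ∀ x : T, x * x = 1 → x ∈ S.V
  · obtain ⟨D⟩ := S.exists_data hV
    by_cases hab : ∀ a b : T, a * b = b * a
    · obtain ⟨n, hn, ⟨e⟩⟩ := D.homocyclic hab
      exact Or.inr (Or.inl ⟨n, hn, ⟨e.trans (MulEquiv.prodMultiplicative _ _)⟩⟩)
    · exact Or.inr (Or.inr (Or.inr (D.nonabelian hab)))
  · push Not at hV
    obtain ⟨a, ha, haV⟩ := hV
    by_cases hall : ∀ x : T, x * x = 1 → k x (S.τ x) = 1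
    · exact Or.inl (S.elementary hall ha haV)
    · push Not at hall
      obtain ⟨x, hx, hxne⟩ := hall
      have h64 := S.card_sixty_four hx hxne
      refine Or.inr (Or.inr (Or.inl ⟨x, S.τ x, hx, by rw [← map_mul, hx, map_one], hxne, h64, ?_⟩))
      refine InvChar.FixedPointFreeOrderSixtyFour.data S.ρ S.h3 S.fpf h64 fun hc => hxne ?_
      show x * S.τ x * x⁻¹ * (S.τ x)⁻¹ = 1
      rw [hc.is_comm.comm x (S.τ x)]
      group

end Setup

end Cfsg.Agent.RankTwoInvol.FoursCenter
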